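import Groth.Agent.UHRepLib.Main
import Groth.Agent.EtThickLib.PushDense

/-!
# The small etale site is invariant under universal homeomorphisms
-/

set_option autoImplicit false
set_option linter.all false
set_option backward.isDefEq.respectTransparency false
set_option backward.isDefEq.respectTransparency.types false

noncomputable section

universe u

open CategoryTheory CategoryTheory.Limits AlgebraicGeometry AlgSp AlgSpLib EtThickLib Opposite

namespace UHRepLib

variable {S : Scheme.{u}} {X Y : Sp S} {f : X ⟶ Y} (hf : Representable f)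

theorem bc_isUH (h : IsUH f) (E : EtOver Y) : IsUH ((yon S).map (EtOver.bcπ hf E)) :=
  h.of_isPullback (EtOver.isPullback_bcObj hf E)

theorem bc_faithful (hY : IsAlgSpace Y) (h : IsUH f) : (EtOver.bc hf).Faithful := by
  refine ⟨fun {E E'} g g' hgg => EtOver.hom_ext _ _ ((yon S).map_injective ?_)⟩
  have key : ∀ k : E ⟶ E', (yon S).map (EtOver.bcπ hf E) ≫ (yon S).map k.hom.left =
      (yon S).map ((EtOver.bcMap hf k).hom.left ≫ EtOver.bcπ hf E') := fun k => by
    rw [← Functor.map_comp]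
    exact congrArg _ (EtOver.bcMap_snd hf k).symm
  exact ((bc_isUH hf h E).existsUnique_lift (IsAlgSpace.yon_obj _) (IsAlgSpace.yon_obj _) (IsAlgSpace.yon_obj _) hY
    (isEtaleMor_of_repWith E'.property) _ E.obj.hom (by
      rw [← EtOver.w g, ← Category.assoc, key g])).unique ⟨key g, EtOver.w g⟩
    ⟨(key g').trans (congrArg (fun m : EtOver.bcObj hf E ⟶ EtOver.bcObj hf E' =>
      (yon S).map (m.hom.left ≫ EtOver.bcπ hf E')) hgg.symm), EtOver.w g'⟩

theorem bc_full (hY : IsAlgSpace Y) (h : IsUH f) : (EtOver.bc hf).Full := by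
  refine ⟨fun {E E'} k => ?_⟩
  obtain ⟨l, ⟨hl1, hl2⟩, -⟩ := (bc_isUH hf h E).existsUnique_lift (IsAlgSpace.yon_obj _) (IsAlgSpace.yon_obj _)
    (IsAlgSpace.yon_obj _) hY (isEtaleMor_of_repWith E'.property)
    ((yon S).map (k.hom.left ≫ EtOver.bcπ hf E')) E.obj.hom (by
      rw [Functor.map_comp, Category.assoc, ← (EtOver.isPullback_bcObj hf E').w, ← Category.assoc,
        ← (EtOver.isPullback_bcObj hf E).w]
      exact congrArg (· ≫ f) (EtOver.w k))
  obtain ⟨l, rfl⟩ := (yon S).map_surjective l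
  refine ⟨EtOver.homMk l hl2, EtOver.hom_ext _ _ (hf.hom_ext ?_ ?_)⟩
  · exact (EtOver.map_bcMap_fst hf _).trans (EtOver.w k).symm
  · exact (EtOver.bcMap_snd hf _).trans ((yon S).map_injective (by rw [Functor.map_comp]; exact hl1))

theorem bc_essSurj (hX : IsAlgSpace X) (hY : IsAlgSpace Y) (h : IsUH f) : (EtOver.bc hf).EssSurj := by
  refine ⟨fun E₀ => ?_⟩
  have hE₀ := IsAlgSpace.yon_obj (S := S) E₀.obj.left
  obtain ⟨A, aE, k, hA, haE, sq⟩ := h.exists_lift_space hX hY hE₀ (isEtaleMor_of_repWith E₀.property)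
  have hk : IsUH k := h.of_isPullback sq
  obtain ⟨M, ⟨eM⟩⟩ := isRepSh_of_uh hA hk
  obtain ⟨m, hm⟩ := (yon S).map_surjective (k ≫ eM.inv)
  have hr : RepWith @Etale (eM.hom ≫ aE) :=
    haE eM.hom (repWith_of_isIso eM.hom)
  let E : EtOver Y := EtOver.mk (eM.hom ≫ aE) hr
  have sqM : IsPullback E₀.obj.hom ((yon S).map m) f E.obj.hom :=
    sq.of_iso (Iso.refl _) (Iso.refl _) eM.symm (Iso.refl _) (by simp) (by simp [hm]) (by simp)
      (by simp [E])
  let e := (yon S).preimageIso ((EtOver.isPullback_bcObj hf E).isoIsPullback _ _ sqM)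
  refine ⟨E, ⟨ObjectProperty.isoMk _ (CostructuredArrow.isoMk e ?_)⟩⟩
  simp only [e, Functor.preimageIso_hom, Functor.map_preimage]
  exact IsPullback.isoIsPullback_hom_fst _ _ _ _

theorem affine_iff (h : IsUH f) (E : EtOver Y) :
    IsAffine E.obj.left.left ↔ IsAffine (EtOver.bcObj hf E).obj.left.left := by
  obtain ⟨h1, h2, h3⟩ := (isUH_yon_map_iff _).1 (bc_isUH hf h E)
  haveI := h1; haveI := h3
  exact ⟨fun _ => isAffine_of_isAffineHom (EtOver.bcπ hf E).left,
    fun _ => ChevLib.isAffine_of_surjective_universallyClosed (EtOver.bcπ hf E).left⟩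

theorem bc_isEquivalence (hX : IsAlgSpace X) (hY : IsAlgSpace Y) (h : IsUH f) : (EtOver.bc hf).IsEquivalence := by
  haveI := bc_faithful hf hY h
  haveI := bc_full hf hY h
  haveI := bc_essSurj hf hX hY h
  exact { }

end UHRepLib
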