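import Groth.Agent.EtThickLib.UHEss
import Groth.Agent.AlgSpLib.RepBase
import Groth.Agent.AlgSpLib.AffineFpqc
import Groth.Agent.AlgSpLib.OpenGlue
import Groth.Agent.ChevLib.Main

/-!
# A criterion for representability of the target of a universal homeomorphism
-/

set_option autoImplicit false
set_option linter.all false
set_option backward.isDefEq.respectTransparency false
set_option backward.isDefEq.respectTransparency.types false

noncomputable section

universe u

open CategoryTheory CategoryTheory.Limits AlgebraicGeometry AlgSp AlgSpLib EtThickLib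

namespace UHRepLib

variable {S : Scheme.{u}}

theorem isPullback_of_mono {C : Type*} [Category C] {P A B Z Z' : C} {fst : P ⟶ A} {snd : P ⟶ B} {f : A ⟶ Z}
    {g : B ⟶ Z} (j : Z ⟶ Z') [Mono j] (sq : IsPullback fst snd (f ≫ j) (g ≫ j)) : IsPullback fst snd f g :=
  ⟨⟨(cancel_mono j).1 (by rw [Category.assoc, Category.assoc, sq.w])⟩,
    ⟨PullbackCone.IsLimit.mk _ (fun s => sq.lift s.fst s.snd (by rw [← Category.assoc, s.condition, Category.assoc]))
      (fun s => sq.lift_fst _ _ _) (fun s => sq.lift_snd _ _ _)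
      (fun s m h1 h2 => sq.hom_ext (by rw [h1, sq.lift_fst]) (by rw [h2, sq.lift_snd]))⟩⟩

/-- If the chart of the source of a universal homeomorphism comes by universal homeomorphism from an affine scheme
receiving the target, then the target is a scheme. -/
theorem isRepSh_of_descended {E : Sp S} (hE : IsAlgSpace E) {W : Over S} {π : (yon S).obj W ⟶ E} (hπ : IsUH π)
    {U : Over S} [IsAffine U.left] {b : (yon S).obj U ⟶ E} (hb : RepWith @Etale b) (hbs : RepWith @Surjective b)
    {T D : Over S} {d : D ⟶ T} (hd : IsUH ((yon S).map d)) (h : W ⟶ D) (g : E ⟶ (yon S).obj T)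
    (hg : π ≫ g = (yon S).map (h ≫ d))
    {U₀ V₀ : Over S} [IsAffine V₀.left] {q₀ : V₀ ⟶ D} (hq₀ : Etale q₀.left) {a : U₀ ⟶ W} {k : U₀ ⟶ V₀} {c : U₀ ⟶ U}
    (sq₁ : IsPullback k a q₀ h) (sqU : IsPullback ((yon S).map a) ((yon S).map c) π b) : IsRepSh E := by
  obtain ⟨U', u', Φ, hu', sqΦ⟩ := exists_lift_over_uh d hd q₀ hq₀
  have hΦ : IsUH ((yon S).map Φ) := hd.of_isPullback (sqΦ.map (yon S)).flip
  haveI : IsAffine U'.left := by
    haveI : IsIntegralHom Φ.left :=
      (repWith_yon_map_iff (P := (@IsIntegralHom : MorphismProperty Scheme.{u})) Φ).1 hΦ.integral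
    haveI : Surjective Φ.left :=
      (repWith_yon_map_iff (P := (@Surjective : MorphismProperty Scheme.{u})) Φ).1 hΦ.surj
    exact ChevLib.isAffine_of_surjective_universallyClosed Φ.left
  have sqV := (sq₁.paste_horiz sqΦ).map (yon S)
  rw [← hg] at sqV
  let E' := pullback g ((yon S).map u')
  let f' : E' ⟶ E := pullback.fst g ((yon S).map u')
  have sqE := IsPullback.of_hasPullback g ((yon S).map u')
  have hu'e : RepWith @Etale ((yon S).map u') :=
    (repWith_yon_map_iff (P := (@Etale : MorphismProperty Scheme.{u})) u').2 hu'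
  have hf' : RepWith @Etale f' := repWith_of_isPullback sqE.flip hu'e
  have hE' : IsAlgSpace E' := isAlgSpace_pullback hE (IsAlgSpace.yon_obj U') (IsAlgSpace.yon_obj T) _ _
  let e₀ : (yon S).obj U₀ ⟶ E' := sqE.lift ((yon S).map a ≫ π) ((yon S).map (k ≫ Φ))
    (by rw [Category.assoc, ← sqV.w])
  have sq₀ : IsPullback e₀ ((yon S).map a) f' π := by
    refine IsPullback.of_right ?_ (sqE.lift_fst _ _ _) sqE.flip
    rw [sqE.lift_snd]
    exact sqV
  have he₀ : IsUH e₀ := hπ.of_isPullback sq₀.flip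
  have hc : IsUH ((yon S).map c) := hπ.of_isPullback sqU
  have hU₀ := IsAlgSpace.yon_obj (S := S) U₀
  have hU := IsAlgSpace.yon_obj (S := S) U
  obtain ⟨l, ⟨hl1, hl2⟩, -⟩ := hc.existsUnique_lift hU₀ hU hE' hE (isEtaleMor_of_repWith hf') e₀ b
    (by rw [show e₀ ≫ f' = _ from sqE.lift_fst _ _ _, sqU.w])
  obtain ⟨l', ⟨hl1', hl2'⟩, -⟩ := he₀.existsUnique_lift hU₀ hE' hU hE (isEtaleMor_of_repWith hb) ((yon S).map c) f'
    (by rw [show e₀ ≫ f' = _ from sqE.lift_fst _ _ _, sqU.w])
  have h1 : l ≫ l' = 𝟙 _ :=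
    (hc.existsUnique_lift hU₀ hU hU hE (isEtaleMor_of_repWith hb) ((yon S).map c) b rfl).unique
      ⟨by rw [← Category.assoc, hl1, hl1'], by rw [Category.assoc, hl2', hl2]⟩
      ⟨Category.comp_id _, Category.id_comp _⟩
  have h2 : l' ≫ l = 𝟙 _ :=
    (he₀.existsUnique_lift hU₀ hE' hE' hE (isEtaleMor_of_repWith hf') e₀ f' rfl).unique
      ⟨by rw [← Category.assoc, hl1', hl1], by rw [Category.assoc, hl2, hl2']⟩
      ⟨Category.comp_id _, Category.id_comp _⟩
  let eU : (yon S).obj U ≅ E' := ⟨l, l', h1, h2⟩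
  obtain ⟨p, hp⟩ := (yon S).map_surjective (l ≫ pullback.snd g ((yon S).map u'))
  have sqb : IsPullback b ((yon S).map p) g ((yon S).map u') :=
    sqE.of_iso eU.symm (Iso.refl _) (Iso.refl _) (Iso.refl _)
      (by simp [eU]; exact hl2'.symm) (by rw [hp]; simp [eU, reassoc_of% h2]) (by simp) (by simp)
  -- the open image
  haveI := hu'
  let O : T.left.Opens := ⟨Set.range u'.left, u'.left.isOpenMap.isOpen_range⟩
  let V : Over S := Over.mk (O.ι ≫ T.hom)
  let j : V ⟶ T := Over.homMk O.ι rfl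
  have hj : RepWith @IsOpenImmersion ((yon S).map j) :=
    (repWith_yon_map_iff (P := (@IsOpenImmersion : MorphismProperty Scheme.{u})) j).2 (inferInstanceAs (IsOpenImmersion O.ι))
  let q : U' ⟶ V := Over.homMk (IsOpenImmersion.lift O.ι u'.left (fun x hx => ⟨⟨x, hx⟩, rfl⟩)) (by
    show _ ≫ O.ι ≫ T.hom = _
    rw [IsOpenImmersion.lift_fac_assoc, Over.w])
  have hq : q ≫ j = u' := Over.OverMorphism.ext (IsOpenImmersion.lift_fac _ _ _)
  haveI : Mono ((yon S).map j) := mono_of_repWith (fun g (_ : IsOpenImmersion g) => inferInstance) hj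
  have hqs : Surjective q.left := ⟨fun v => by
    obtain ⟨x, hx⟩ := (v.2 : v.1 ∈ Set.range u'.left)
    refine ⟨x, O.ι.isOpenEmbedding.injective ?_⟩
    exact (Scheme.Hom.comp_apply q.left O.ι x).symm.trans ((congrArg (fun z : U' ⟶ T => z.left x) hq).trans hx)⟩
  haveI : Etale (q.left ≫ j.left) := by rw [← Over.comp_left, hq]; exact hu'
  haveI : IsOpenImmersion j.left := inferInstanceAs (IsOpenImmersion O.ι)
  haveI : Etale q.left := Etale.of_comp q.left j.left
  obtain ⟨gV, hgV⟩ := (exists_factor_iff hj g).2 (by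
    rintro _ ⟨x, rfl⟩
    obtain ⟨y, rfl⟩ := map_surjective_of_repWith hbs x
    refine ⟨Points.map ((yon S).map (p ≫ q)) y, ?_⟩
    rw [← Points.map_comp, ← Points.map_comp, ← Functor.map_comp, Category.assoc, hq, Functor.map_comp, sqb.w])
  have sqV' : IsPullback b ((yon S).map p) gV ((yon S).map q) := by
    refine isPullback_of_mono ((yon S).map j) ?_
    rw [hgV, ← Functor.map_comp, hq]
    exact sqb
  exact isRepSh_of_fppf_base (P := @IsAffineHom) isEffClass_isAffineHom sqV' inferInstance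

end UHRepLib
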