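import Groth.Agent.UHRepLib.Ring
import Groth.Agent.UHRepLib.Crit
import Groth.Agent.AlgSpRegLib.ImageIdeal
import Groth.Agent.AlgSpLib.Reduced
import Groth.Agent.AlgSpLib.QAffDescent
import Groth.Agent.AlgSpLib.Descend
import Groth.Agent.Thickening.Basic

/-!
# The step along the conductor
-/

set_option autoImplicit false
set_option linter.all false
set_option backward.isDefEq.respectTransparency false
set_option backward.isDefEq.respectTransparency.types false
set_option maxHeartbeats 1000000

noncomputable section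

universe u

open CategoryTheory CategoryTheory.Limits AlgebraicGeometry AlgSp AlgSpLib AlgSpRegLib EtThickLib TensorProduct

namespace UHRepLib

variable {S : Scheme.{u}}

theorem specMap_appTop_iff {X Y : Scheme.{u}} [IsAffine X] [IsAffine Y] (f : X ⟶ Y) (P : MorphismProperty Scheme.{u})
    [P.RespectsIso] : P (Spec.map f.appTop) ↔ P f :=
  (P.arrow_mk_iso_iff (Arrow.isoMk X.isoSpec Y.isoSpec (Scheme.isoSpec_hom_naturality f))).symm

theorem isUH_yon_map_iff {X Y : Over S} (f : X ⟶ Y) :
    IsUH ((yon S).map f) ↔ IsIntegralHom f.left ∧ UniversallyInjective f.left ∧ Surjective f.left := by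
  rw [← repWith_yon_map_iff (P := (@IsIntegralHom : MorphismProperty Scheme.{u})) f,
    ← repWith_yon_map_iff (P := (@UniversallyInjective : MorphismProperty Scheme.{u})) f,
    ← repWith_yon_map_iff (P := (@Surjective : MorphismProperty Scheme.{u})) f]
  exact ⟨fun h => ⟨h.integral, h.radicial, h.surj⟩, fun h => ⟨h.1, h.2.1, h.2.2⟩⟩

section SpecOver

variable [IsAffine S]

/-- The spectrum of an algebra over an affine base. -/
def specOver (A : Type u) [CommRing A] (str : Γ(S, ⊤) →+* A) : Over S :=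
  Over.mk (Spec.map (CommRingCat.ofHom str) ≫ S.isoSpec.inv)

instance (A : Type u) [CommRing A] (str : Γ(S, ⊤) →+* A) : IsAffine (specOver A str).left :=
  inferInstanceAs (IsAffine (Spec (CommRingCat.of A)))

/-- A morphism to a spectrum over the base. -/
def toSpec {X : Over S} [IsAffine X.left] {A : Type u} [CommRing A] (str : Γ(S, ⊤) →+* A)
    (φ : A →+* Γ(X.left, ⊤)) (h : φ.comp str = X.hom.appTop.hom) : X ⟶ specOver A str :=
  Over.homMk (X.left.isoSpec.hom ≫ Spec.map (CommRingCat.ofHom φ)) (by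
    show (_ ≫ _) ≫ Spec.map _ ≫ S.isoSpec.inv = X.hom
    rw [Category.assoc, ← Category.assoc (Spec.map _), ← Spec.map_comp, ← CommRingCat.ofHom_comp, h,
      CommRingCat.ofHom_hom, Scheme.isoSpec_hom_naturality_assoc, Iso.hom_inv_id, Category.comp_id])

theorem toSpec_left {X : Over S} [IsAffine X.left] {A : Type u} [CommRing A] (str : Γ(S, ⊤) →+* A)
    (φ : A →+* Γ(X.left, ⊤)) (h : φ.comp str = X.hom.appTop.hom) :
    (toSpec str φ h).left = X.left.isoSpec.hom ≫ Spec.map (CommRingCat.ofHom φ) := rfl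

theorem comp_toSpec_left {X Y : Over S} [IsAffine X.left] [IsAffine Y.left] (f : Y ⟶ X) {A : Type u} [CommRing A]
    (str : Γ(S, ⊤) →+* A) (φ : A →+* Γ(X.left, ⊤)) (h : φ.comp str = X.hom.appTop.hom) :
    f.left ≫ (toSpec str φ h).left = Y.left.isoSpec.hom ≫ Spec.map (CommRingCat.ofHom (f.left.appTop.hom.comp φ)) := by
  rw [toSpec_left, CommRingCat.ofHom_comp, CommRingCat.ofHom_hom, Spec.map_comp,
    Scheme.isoSpec_hom_naturality_assoc]

theorem appTop_hom_over {X Y : Over S} (f : Y ⟶ X) : f.left.appTop.hom.comp X.hom.appTop.hom = Y.hom.appTop.hom := by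
  rw [← CommRingCat.hom_comp, ← Scheme.Hom.comp_appTop, Over.w]

theorem isUH_toSpec {X : Over S} [IsAffine X.left] {A : Type u} [CommRing A] (str : Γ(S, ⊤) →+* A)
    (φ : A →+* Γ(X.left, ⊤)) (h : φ.comp str = X.hom.appTop.hom)
    (h1 : IsIntegralHom (Spec.map (CommRingCat.ofHom φ))) (h2 : UniversallyInjective (Spec.map (CommRingCat.ofHom φ)))
    (h3 : Surjective (Spec.map (CommRingCat.ofHom φ))) : IsUH ((yon S).map (toSpec str φ h)) := by
  rw [isUH_yon_map_iff, toSpec_left]
  exact ⟨inferInstance, MorphismProperty.comp_mem @UniversallyInjective _ _ inferInstance h2, inferInstance⟩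

end SpecOver

/-- An affine scheme with a universal homeomorphism to a space with an affine chart, all reduced. -/
structure Sit (S : Scheme.{u}) where
  E : Sp S
  hE : IsAlgSpace E
  W : Over S
  π : (yon S).obj W ⟶ E
  hπ : IsUH π
  U : Over S
  b : (yon S).obj U ⟶ E
  hb : RepWith @Etale b
  hbs : RepWith @Surjective b
  U₀ : Over S
  a : U₀ ⟶ W
  c : U₀ ⟶ U
  sqU : IsPullback ((yon S).map a) ((yon S).map c) π b
  affW : IsAffine W.left
  affU : IsAffine U.left
  redU : IsReduced U.left
  redW : IsReduced W.left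

namespace Sit

attribute [instance] Sit.affW Sit.affU Sit.redU Sit.redW

variable (X : Sit S)

instance : IsIntegralHom X.c.left := ((isUH_yon_map_iff X.c).1 (X.hπ.of_isPullback X.sqU)).1

instance : UniversallyInjective X.c.left := ((isUH_yon_map_iff X.c).1 (X.hπ.of_isPullback X.sqU)).2.1

instance : Surjective X.c.left := ((isUH_yon_map_iff X.c).1 (X.hπ.of_isPullback X.sqU)).2.2

theorem ha : RepWith @Etale ((yon S).map X.a) := repWith_of_isPullback X.sqU.flip X.hb

theorem has : RepWith @Surjective ((yon S).map X.a) := repWith_of_isPullback X.sqU.flip X.hbs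

instance : Etale X.a.left := (repWith_yon_map_iff (P := (@Etale : MorphismProperty Scheme.{u})) X.a).1 X.ha

instance : Surjective X.a.left :=
  (repWith_yon_map_iff (P := (@Surjective : MorphismProperty Scheme.{u})) X.a).1 X.has

instance : IsAffine X.U₀.left := isAffine_of_isAffineHom X.c.left

instance : IsReduced X.U₀.left := isReduced_of_smooth X.a.left

/-- The map on functions of the chart. -/
abbrev g : Γ(X.U.left, ⊤) →+* Γ(X.U₀.left, ⊤) := X.c.left.appTop.hom

/-- The map on functions of the covering. -/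
abbrev al : Γ(X.W.left, ⊤) →+* Γ(X.U₀.left, ⊤) := X.a.left.appTop.hom

instance : UniversallyInjective (Spec.map (CommRingCat.ofHom X.g)) := by
  rw [CommRingCat.ofHom_hom]
  exact (specMap_appTop_iff X.c.left @UniversallyInjective).2 inferInstance

instance : Surjective (Spec.map (CommRingCat.ofHom X.g)) := by
  rw [CommRingCat.ofHom_hom]
  exact (specMap_appTop_iff X.c.left @Surjective).2 inferInstance

theorem g_isIntegral : X.g.IsIntegral := X.c.left.isIntegral_app ⊤ (isAffineOpen_top _)

theorem g_injective : Function.Injective X.g := injective_of_surjective _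

theorem al_injective : Function.Injective X.al := by
  haveI : Surjective (Spec.map (CommRingCat.ofHom X.al)) := by
    rw [CommRingCat.ofHom_hom]
    exact (specMap_appTop_iff X.a.left @Surjective).2 inferInstance
  exact injective_of_surjective _

/-- The functions of the target, inside those of the source. -/
def funs : Subring Γ(X.W.left, ⊤) := X.g.range.comap X.al

theorem mem_funs {x : Γ(X.W.left, ⊤)} : x ∈ X.funs ↔ X.al x ∈ X.g.range := Iff.rfl

/-- The functions on the chart. -/
def toR : X.funs →+* Γ(X.U.left, ⊤) :=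
  (RingEquiv.ofBijective X.g.rangeRestrict ⟨fun x y h => X.g_injective (congrArg Subtype.val h),
    X.g.rangeRestrict_surjective⟩).symm.toRingHom.comp ((X.al.comp X.funs.subtype).codRestrict X.g.range fun x => x.2)

theorem g_toR (x : X.funs) : X.g (X.toR x) = X.al x.1 :=
  congrArg Subtype.val ((RingEquiv.ofBijective X.g.rangeRestrict ⟨fun x y h => X.g_injective (congrArg Subtype.val h),
    X.g.rangeRestrict_surjective⟩).apply_symm_apply ⟨X.al x.1, x.2⟩)

/-- Morphisms to separated schemes descend to the target. -/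
theorem exists_hom {T : Over S} [T.left.IsSeparated] (hU : X.U ⟶ T) (hW : X.W ⟶ T) (w : X.c ≫ hU = X.a ≫ hW) :
    ∃ G : X.E ⟶ (yon S).obj T, X.b ≫ G = (yon S).map hU ∧ X.π ≫ G = (yon S).map hW := by
  obtain ⟨P, p₁, p₂, sqP⟩ := exists_isPullback_yon X.b X.b X.hb.rep
  haveI : Etale p₁.left := etale_left (repWith_of_isPullback sqP.flip X.hb)
  haveI : IsReduced P.left := isReduced_of_smooth p₁.left
  obtain ⟨D, d, q, sqD⟩ := exists_isPullback_yon X.π ((yon S).map p₁ ≫ X.b) X.hπ.integral.rep
  haveI : Surjective q.left := surjective_left (repWith_of_isPullback sqD X.hπ.surj)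
  have key : ∀ p : P ⟶ X.U, (yon S).map p ≫ X.b = (yon S).map p₁ ≫ X.b → q ≫ p ≫ hU = d ≫ hW := fun p hp => by
    obtain ⟨l, hl⟩ := (yon S).map_surjective (X.sqU.lift ((yon S).map d) ((yon S).map (q ≫ p))
      (by rw [Functor.map_comp, Category.assoc, hp, sqD.w]))
    have h1 : l ≫ X.a = d := (yon S).map_injective (by rw [Functor.map_comp, hl, X.sqU.lift_fst])
    have h2 : l ≫ X.c = q ≫ p := (yon S).map_injective (by rw [Functor.map_comp, hl, X.sqU.lift_snd])
    rw [← Category.assoc, ← h2, Category.assoc, w, ← Category.assoc, h1]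
  have heq : p₁ ≫ hU = p₂ ≫ hU := by
    refine Over.OverMorphism.ext (ext_of_isDominant q.left ?_)
    exact congrArg (fun z : D ⟶ T => z.left) ((key p₁ rfl).trans (key p₂ sqP.w.symm).symm)
  obtain ⟨G, hG⟩ := exists_desc_of_atlas X.hb X.hbs ((yon S).map hU) fun Z z z' hz => by
    obtain ⟨l, hl⟩ := (yon S).map_surjective (sqP.lift ((yon S).map z) ((yon S).map z') hz)
    have h1 : l ≫ p₁ = z := (yon S).map_injective (by rw [Functor.map_comp, hl, sqP.lift_fst])
    have h2 : l ≫ p₂ = z' := (yon S).map_injective (by rw [Functor.map_comp, hl, sqP.lift_snd])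
    rw [← Functor.map_comp, ← Functor.map_comp, ← h1, ← h2, Category.assoc, Category.assoc, heq]
  refine ⟨G, hG, hom_ext_of_atlas X.ha X.has ?_⟩
  rw [← Category.assoc, X.sqU.w, Category.assoc, hG, ← Functor.map_comp, ← Functor.map_comp, w]

theorem colon_comap_eq {ι : Type*} [Finite ι] (m : ι → Γ(X.W.left, ⊤)) {O : Over S} [IsAffine O.left]
    (x y : O ⟶ X.U) [Flat x.left] [Flat y.left] (w : (yon S).map x ≫ X.b = (yon S).map y ≫ X.b) :
    (colon X.g (X.al ∘ m)).map x.left.appTop.hom = (colon X.g (X.al ∘ m)).map y.left.appTop.hom := by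
  obtain ⟨D, d, q, sqD⟩ := exists_isPullback_yon X.π ((yon S).map x ≫ X.b) X.hπ.integral.rep
  haveI : IsIntegralHom q.left :=
    (repWith_yon_map_iff (P := (@IsIntegralHom : MorphismProperty Scheme.{u})) q).1
      (repWith_of_isPullback sqD X.hπ.integral)
  haveI : IsAffine D.left := isAffine_of_isAffineHom q.left
  have key : ∀ (z : O ⟶ X.U) [Flat z.left], (yon S).map z ≫ X.b = (yon S).map x ≫ X.b → ∀ t : Γ(O.left, ⊤),
      t ∈ (colon X.g (X.al ∘ m)).map z.left.appTop.hom ↔
        ∀ k, q.left.appTop.hom t * d.left.appTop.hom (m k) ∈ q.left.appTop.hom.range := fun z _ hz t => by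
    have sq' : IsPullback ((yon S).map d) ((yon S).map q) X.π ((yon S).map z ≫ X.b) := hz ▸ sqD
    obtain ⟨l, hl⟩ := (yon S).map_surjective (X.sqU.lift ((yon S).map d) ((yon S).map (q ≫ z))
      (by rw [Functor.map_comp, Category.assoc, sq'.w]))
    have h1 : l ≫ X.a = d := (yon S).map_injective (by rw [Functor.map_comp, hl, X.sqU.lift_fst])
    have h2 : l ≫ X.c = q ≫ z := (yon S).map_injective (by rw [Functor.map_comp, hl, X.sqU.lift_snd])
    have sql : IsPullback ((yon S).map l) ((yon S).map q) ((yon S).map X.c) ((yon S).map z) := by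
      refine IsPullback.of_right ?_ (by rw [← Functor.map_comp, ← Functor.map_comp, h2]) X.sqU
      rw [← Functor.map_comp, h1]
      exact sq'
    have sqs : IsPullback l.left q.left X.c.left z.left := isPullback_left sql
    have hd : (fun k => d.left.appTop.hom (m k)) = fun k => l.left.appTop.hom (X.al (m k)) := by
      funext k
      rw [← h1, Over.comp_left, Scheme.Hom.comp_appTop]
      rfl
    rw [show (∀ k, q.left.appTop.hom t * d.left.appTop.hom (m k) ∈ q.left.appTop.hom.range) ↔
      ∀ k, q.left.appTop.hom t * l.left.appTop.hom ((X.al ∘ m) k) ∈ q.left.appTop.hom.range from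
      forall_congr' fun k => by rw [congrFun hd k]; rfl]
    refine mem_map_colon X.g z.left.appTop.hom l.left.appTop.hom q.left.appTop.hom
      (HasRingHomProperty.appTop (P := @Flat) z.left ‹_›) ?_ ?_ _ t
    · rw [← CommRingCat.hom_comp, ← CommRingCat.hom_comp, ← Scheme.Hom.comp_appTop, ← Scheme.Hom.comp_appTop, sqs.w]
    · letI := X.g.toAlgebra
      letI := z.left.appTop.hom.toAlgebra
      exact exists_tensor_equiv (isPushout_appTop_of_isPullback sqs) rfl rfl
  ext t
  rw [key x rfl, key y w.symm]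

theorem comap_eq_of_rel {ι : Type*} [Finite ι] (m : ι → Γ(X.W.left, ⊤)) (T : Over S) (r s : T ⟶ X.U)
    (w : (yon S).map r ≫ X.b = (yon S).map s ≫ X.b) :
    (Scheme.IdealSheafData.ofIdealTop (colon X.g (X.al ∘ m))).comap r.left =
      (Scheme.IdealSheafData.ofIdealTop (colon X.g (X.al ∘ m))).comap s.left := by
  refine comap_eq_of_relation X.hb _ (fun R p q hp hq w => eq_of_comap_top_eq fun O => ?_) T r s w
  haveI := hp; haveI := hq
  let Oo : Over S := Over.mk (O.1.ι ≫ R.hom)
  haveI : IsAffine Oo.left := O.2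
  let o : Oo ⟶ R := Over.homMk O.1.ι rfl
  haveI : IsAffine O.1.toScheme := O.2
  haveI : Flat (o ≫ p).left := inferInstanceAs (Flat (O.1.ι ≫ p.left))
  haveI : Flat (o ≫ q).left := inferInstanceAs (Flat (O.1.ι ≫ q.left))
  rw [← Scheme.IdealSheafData.comap_comp, ← Scheme.IdealSheafData.comap_comp,
    ChevLib.ideal_comap_top_of_isAffine, ChevLib.ideal_comap_top_of_isAffine]
  simp only [Scheme.IdealSheafData.ofIdealTop_ideal, homOfLE_refl, op_id, CategoryTheory.Functor.map_id,
    CommRingCat.hom_id, Ideal.map_id]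
  exact colon_comap_eq X m (o ≫ p) (o ≫ q)
    (by rw [Functor.map_comp, Functor.map_comp, Category.assoc, Category.assoc, w])

variable [IsAffine S]

/-- If finitely many functions of the source span and are fractions, the target is a scheme. -/
theorem isRepSh_of_spanned
    (hmin : ∀ (Z : Sp S) (i : Z ⟶ X.E), IsAlgSpace Z → RepWith @IsClosedImmersion i → ¬ IsIso i → IsRepSh Z)
    {ι : Type*} [Finite ι] (m : ι → Γ(X.W.left, ⊤))
    (hspan : ∀ z, z ∈ @Submodule.span Γ(X.U.left, ⊤) Γ(X.U₀.left, ⊤) _ _ X.g.toAlgebra.toModule (Set.range (X.al ∘ m)))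
    (r₀ : Γ(X.U.left, ⊤)) (hr₀ : r₀ ≠ 0) (hr₀m : ∀ k, X.g r₀ * X.al (m k) ∈ X.g.range) : IsRepSh X.E := by
  let J := colon X.g (X.al ∘ m)
  have hJC : ∀ r ∈ J, ∀ z, X.g r * z ∈ X.g.range := fun r hr z => by
    letI := X.g.toAlgebra
    refine Submodule.span_induction (fun y hy => ?_) ?_ (fun y z _ _ hy hz => ?_) (fun a y _ hy => ?_) (hspan z)
    · obtain ⟨k, rfl⟩ := hy
      exact hr k
    · rw [mul_zero]; exact zero_mem _
    · rw [mul_add]; exact add_mem hy hz
    · rw [Algebra.smul_def, mul_left_comm]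
      exact mul_mem ⟨a, rfl⟩ hy
  have hJCr : ∀ z ∈ J.map X.g, z ∈ X.g.range := fun z hz => by
    have : ∀ y, z * y ∈ X.g.range := by
      refine Submodule.span_induction (fun y hy => ?_) ?_ (fun y z _ _ hy hz => ?_) (fun a y _ hy => ?_) hz
      · obtain ⟨r, hr, rfl⟩ := hy
        exact hJC r hr
      · intro y; rw [zero_mul]; exact zero_mem _
      · intro v; rw [add_mul]; exact add_mem (hy v) (hz v)
      · intro v; rw [smul_eq_mul, mul_comm a, mul_assoc]; exact hy (a * v)
    simpa using this 1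
  -- the closed subspace of the conductor
  let I : X.U.left.IdealSheafData := Scheme.IdealSheafData.ofIdealTop J
  have hI : I.ideal ⟨⊤, isAffineOpen_top _⟩ = J := by simp [I]
  obtain ⟨Z, i, z, hZ, hi, sqZ, -⟩ := exists_closedSub X.hE X.hb X.hbs I (X.comap_eq_of_rel m)
  have hni : ¬ IsIso i := fun h => by
    haveI := h
    haveI : IsIso ((yon S).map (subι X.U I)) := sqZ.isIso_snd_of_isIso
    haveI : IsIso (subι X.U I) := isIso_of_reflects_iso _ (yon S)
    haveI : IsIso ((Over.forget S).map (subι X.U I)) := inferInstance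
    have h0 : I = ⊥ := (Scheme.isIso_subschemeι_iff_eq_bot (I := I)).1 (inferInstanceAs (IsIso ((Over.forget S).map (subι X.U I))))
    refine hr₀ ?_
    have : r₀ ∈ I.ideal ⟨⊤, isAffineOpen_top _⟩ := hI ▸ hr₀m
    rw [h0] at this
    simpa using this
  obtain ⟨TJ, ⟨e⟩⟩ := hmin Z i hZ hi hni
  let j : (yon S).obj TJ ⟶ X.E := e.hom ≫ i
  obtain ⟨WJ, wW, wT, sqJ⟩ := exists_isPullback_yon X.π j X.hπ.integral.rep
  haveI : IsClosedImmersion wW.left := (repWith_yon_map_iff (P := (@IsClosedImmersion : MorphismProperty Scheme.{u})) wW).1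
    (repWith_of_isPullback sqJ.flip (repWith_comp (repWith_of_isIso e.hom) hi))
  haveI : IsAffine WJ.left := isAffine_of_isAffineHom wW.left
  obtain ⟨hT1, hT2, hT3⟩ := (isUH_yon_map_iff wT).1 (X.hπ.of_isPullback sqJ)
  haveI := hT1; haveI := hT2; haveI := hT3
  haveI : IsAffine TJ.left := ChevLib.isAffine_of_surjective_universallyClosed wT.left
  have hwWs : Function.Surjective wW.left.appTop.hom := (IsClosedImmersion.isAffine_surjective_of_isAffine wW.left).2
  -- the closed subscheme of the covering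
  let K : Over S := subOver X.U₀ (I.comap X.c.left)
  let κ : K ⟶ X.U₀ := subι X.U₀ (I.comap X.c.left)
  haveI : IsClosedImmersion κ.left := (inferInstance : IsClosedImmersion (I.comap X.c.left).subschemeι)
  haveI : IsAffine K.left := isAffine_of_isAffineHom κ.left
  have hκ : ∀ t, κ.left.appTop.hom t = 0 → t ∈ J.map X.g := fun t ht => by
    have h1 : t ∈ RingHom.ker κ.left.appTop.hom := ht
    have h2 : RingHom.ker κ.left.appTop.hom = (I.comap X.c.left).ideal ⟨⊤, isAffineOpen_top _⟩ :=
      Scheme.IdealSheafData.ker_subschemeι_app _ ⟨⊤, isAffineOpen_top _⟩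
    rw [h2, ChevLib.ideal_comap_top_of_isAffine, hI] at h1
    exact h1
  obtain ⟨l, hl⟩ : ∃ l : K ⟶ subOver X.U I, l ≫ subι X.U I = κ ≫ X.c := by
    rw [factor_subι, Over.comp_left, Scheme.IdealSheafData.comap_comp]
    exact (factor_subι _ κ).1 ⟨𝟙 _, Category.id_comp _⟩
  obtain ⟨zT, hzT⟩ := (yon S).map_surjective (z ≫ e.inv)
  obtain ⟨v, hv⟩ := (yon S).map_surjective (sqJ.lift ((yon S).map (κ ≫ X.a)) ((yon S).map (l ≫ zT)) (by
    simp only [j, Functor.map_comp, hzT, Category.assoc, e.inv_hom_id_assoc, sqZ.w, X.sqU.w]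
    rw [← Category.assoc, ← Functor.map_comp, ← hl, Functor.map_comp, Category.assoc]))
  have hvW : v ≫ wW = κ ≫ X.a := (yon S).map_injective (by rw [Functor.map_comp, hv, sqJ.lift_fst])
  have hvT : v ≫ wT = l ≫ zT := (yon S).map_injective (by rw [Functor.map_comp, hv, sqJ.lift_snd])
  have evW : ∀ x, κ.left.appTop.hom (X.al x) = v.left.appTop.hom (wW.left.appTop.hom x) := fun x => by
    rw [← RingHom.comp_apply, ← RingHom.comp_apply, ← CommRingCat.hom_comp, ← CommRingCat.hom_comp,
      ← Scheme.Hom.comp_appTop, ← Scheme.Hom.comp_appTop, ← Over.comp_left, ← Over.comp_left, hvW]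
  have hsub : Function.Surjective (subι X.U I).left.appTop.hom :=
    haveI : IsClosedImmersion (subι X.U I).left := (inferInstance : IsClosedImmersion I.subschemeι)
    (IsClosedImmersion.isAffine_surjective_of_isAffine _).2
  let 𝔎 : Ideal Γ(X.W.left, ⊤) := RingHom.ker wW.left.appTop.hom
  have h𝔎 : ∀ x ∈ 𝔎, x ∈ X.funs := fun x hx => hJCr _ (hκ _ (by rw [evW, RingHom.mem_ker.1 hx, map_zero]))
  have hlift : ∀ t, ∃ β : X.funs, wW.left.appTop.hom β.1 = wT.left.appTop.hom t := fun t => by
    obtain ⟨β, hβ⟩ := hwWs (wT.left.appTop.hom t)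
    refine ⟨⟨β, ?_⟩, hβ⟩
    obtain ⟨r, hr⟩ := hsub (zT.left.appTop.hom t)
    have h1 : κ.left.appTop.hom (X.al β - X.g r) = 0 := by
      rw [map_sub, evW, hβ, sub_eq_zero]
      have e1 := congrArg (fun f : K ⟶ TJ => f.left.appTop.hom t) hvT
      have e2 := congrArg (fun f : K ⟶ X.U => f.left.appTop.hom r) hl
      simp only [Over.comp_left, Scheme.Hom.comp_appTop, CommRingCat.hom_comp, RingHom.comp_apply] at e1 e2
      rw [e1, ← hr, e2]
    have h2 := hJCr _ (hκ _ h1)
    show X.al β ∈ X.g.range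
    simpa using add_mem h2 (⟨r, rfl⟩ : X.g r ∈ X.g.range)
  haveI : UniversallyInjective (Spec.map (CommRingCat.ofHom wT.left.appTop.hom)) := by
    rw [CommRingCat.ofHom_hom]
    exact (specMap_appTop_iff wT.left @UniversallyInjective).2 inferInstance
  obtain ⟨u1, u2, u3⟩ := uh_of_ideal X.funs 𝔎 h𝔎 (fun x => by
    obtain ⟨P, hP, hx⟩ := wT.left.isIntegral_app ⊤ (isAffineOpen_top _) (wW.left.appTop.hom x)
    have hmem : P.map wT.left.appTop.hom ∈ Polynomial.lifts (wW.left.appTop.hom.comp X.funs.subtype) := by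
      rw [Polynomial.lifts_iff_coeff_lifts]
      intro n
      rw [Polynomial.coeff_map]
      obtain ⟨β, hβ⟩ := hlift (P.coeff n)
      exact ⟨β, hβ⟩
    obtain ⟨Q, hQ, -, hQm⟩ := Polynomial.lifts_and_natDegree_eq_and_monic hmem (hP.map _)
    refine ⟨Q, hQm, ?_⟩
    rw [RingHom.mem_ker, Polynomial.hom_eval₂, ← Polynomial.eval_map, hQ, Polynomial.eval_map]
    exact hx) (fun K _ φ ψ hA h1 h2 => by
    have e1 := RingHom.liftOfSurjective_comp wW.left.appTop.hom hwWs ⟨φ, fun x hx => h1 x hx⟩
    have e2 := RingHom.liftOfSurjective_comp wW.left.appTop.hom hwWs ⟨ψ, fun x hx => h2 x hx⟩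
    refine e1.symm.trans (Eq.trans (congrArg (fun z : Γ(WJ.left, ⊤) →+* K => z.comp wW.left.appTop.hom) ?_) e2)
    refine field_ext_of_spec wT.left.appTop.hom K _ _ (RingHom.ext fun t => ?_)
    obtain ⟨β, hβ⟩ := hlift t
    rw [RingHom.comp_apply, RingHom.comp_apply, ← hβ]
    exact (RingHom.congr_fun e1 β.1).trans ((hA β.1 β.2).trans (RingHom.congr_fun e2 β.1).symm))
  -- the affine scheme of functions
  let str : Γ(S, ⊤) →+* X.funs := X.W.hom.appTop.hom.codRestrict X.funs fun x => by
    rw [mem_funs, ← RingHom.comp_apply, appTop_hom_over X.a, ← appTop_hom_over X.c, RingHom.comp_apply]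
    exact ⟨_, rfl⟩
  have hstrW : X.funs.subtype.comp str = X.W.hom.appTop.hom := RingHom.ext fun x => rfl
  have hstrU : X.toR.comp str = X.U.hom.appTop.hom := RingHom.ext fun x => X.g_injective (by
    rw [RingHom.comp_apply, g_toR]
    exact (RingHom.congr_fun (appTop_hom_over X.a) x).trans (RingHom.congr_fun (appTop_hom_over X.c) x).symm)
  let d := toSpec str X.funs.subtype hstrW
  let hU := toSpec str X.toR hstrU
  haveI : (specOver X.funs str).left.IsSeparated := inferInstance
  obtain ⟨G, -, hG⟩ := X.exists_hom hU d (Over.OverMorphism.ext (by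
    rw [Over.comp_left, Over.comp_left, comp_toSpec_left, comp_toSpec_left]
    exact congrArg (fun φ => _ ≫ Spec.map (CommRingCat.ofHom φ)) (RingHom.ext fun x => g_toR X x)))
  exact isRepSh_of_descended X.hE X.hπ X.hb X.hbs (isUH_toSpec str _ hstrW u1 u2 u3) (𝟙 X.W) G
    (by rw [Category.id_comp, hG]) (q₀ := X.a) inferInstance
    (IsPullback.of_horiz_isIso (fst := 𝟙 X.U₀) ⟨by simp⟩) X.sqU

end Sit

end UHRepLib
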