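import Groth.Agent.UHRepLib.Step
import Groth.Agent.AlgSpLib.ThickLocal
import Groth.Agent.AlgSpLib.AffineDescent
import Mathlib.AlgebraicGeometry.Morphisms.FlatDescent

/-!
# Universal homeomorphisms are detected on a chart
-/

set_option autoImplicit false
set_option linter.all false
set_option backward.isDefEq.respectTransparency false
set_option backward.isDefEq.respectTransparency.types false

noncomputable section

universe u

open CategoryTheory CategoryTheory.Limits AlgebraicGeometry AlgSp AlgSpLib EtThickLib

namespace UHRepLib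

variable {S : Scheme.{u}}

theorem isUH_of_cover {F G : Sp S} {U V : Over S} {f : F ⟶ G} {fst : (yon S).obj U ⟶ F} {h : U ⟶ V}
    {a : (yon S).obj V ⟶ G} (ha : RepWith @Etale a) (has : RepWith @Surjective a)
    (sq : IsPullback fst ((yon S).map h) f a) [IsIntegralHom h.left] [UniversallyInjective h.left]
    [Surjective h.left] : IsUH f := by
  haveI : Sheaf.IsLocallySurjective a := isLocallySurjective_of_repWith
    (repWith_mono (fun _ _ g (_ : Etale g) => (inferInstance : Flat g)) ha)
    (repWith_mono (fun _ _ g (_ : Etale g) => (inferInstance : LocallyOfFinitePresentation g)) ha) has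
  haveI := descendsAlong_surjective.{u}
  have hi : RepWith @IsIntegralHom f := repWith_of_etale_cover (fun _ _ g (_ : IsIntegralHom g) => inferInstance)
    ha has sq ((repWith_yon_map_iff _ _).2 ‹IsIntegralHom h.left›)
  exact ⟨hi, repWith_of_cover sq hi.rep ((repWith_yon_map_iff _ _).2 ‹UniversallyInjective h.left›),
    repWith_of_cover sq hi.rep ((repWith_yon_map_iff _ _).2 ‹Surjective h.left›)⟩

theorem isUH_iso_comp {F F' G : Sp S} (e : F' ≅ F) {f : F ⟶ G} (hf : IsUH f) : IsUH (e.hom ≫ f) :=
  hf.of_isPullback (IsPullback.of_horiz_isIso (fst := e.hom) (snd := e.hom ≫ f) (f := f) (g := 𝟙 G) ⟨by simp⟩)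

theorem universallyInjective_of_comp {X Y Z : Scheme.{u}} (f : X ⟶ Y) (g : Y ⟶ Z) [UniversallyInjective (f ≫ g)] :
    UniversallyInjective f := by
  have h : ∀ (K : Type u) [Field K], Function.Injective fun x : Spec (.of K) ⟶ X => x ≫ f ≫ g :=
    ((tfae_universallyInjective (f ≫ g)).out 0 1).1 ‹_›
  refine ((tfae_universallyInjective f).out 0 1).2 ?_
  intro K _ x y hxy
  refine @h K _ x y ?_
  show x ≫ f ≫ g = y ≫ f ≫ g
  rw [← Category.assoc, ← Category.assoc]
  exact congrArg (· ≫ g) hxy

end UHRepLib
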