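import Groth.Agent.UHRepLib.Cover
import Groth.Agent.AlgSpRegLib.ImageApps
import Mathlib.RingTheory.Smooth.NoetherianDescent

/-!
# Reduction to the finite spanned case
-/

set_option autoImplicit false
set_option linter.all false
set_option backward.isDefEq.respectTransparency false
set_option backward.isDefEq.respectTransparency.types false
set_option maxHeartbeats 4000000

noncomputable section

universe u

open CategoryTheory CategoryTheory.Limits AlgebraicGeometry AlgSp AlgSpLib AlgSpRegLib EtThickLib TensorProduct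

namespace UHRepLib

variable {S : Scheme.{u}} [IsAffine S]

theorem toSpec_appTop {X : Over S} [IsAffine X.left] {A : Type u} [CommRing A] (str : Γ(S, ⊤) →+* A)
    (φ : A →+* Γ(X.left, ⊤)) (h : φ.comp str = X.hom.appTop.hom) (x : A) :
    (toSpec str φ h).left.appTop.hom ((Scheme.ΓSpecIso (CommRingCat.of A)).inv.hom x) = φ x := by
  have : (Scheme.ΓSpecIso (CommRingCat.of A)).inv ≫ (toSpec str φ h).left.appTop = CommRingCat.ofHom φ := by
    rw [toSpec_left, Scheme.Hom.comp_appTop, ← Category.assoc, ← Scheme.ΓSpecIso_inv_naturality]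
    simp [Scheme.isoSpec, Scheme.toSpecΓ_appTop]
  exact RingHom.congr_fun (congrArg CommRingCat.Hom.hom this) x

theorem Sit.isRepSh_of_isEmpty {X : Sit S} [IsEmpty X.U.left] : IsRepSh X.E := by
  refine isRepSh_of_openCover (ι := PEmpty.{u + 1}) (W := fun i => i.elim) (fun i => i.elim)
    (fun i => i.elim) fun T b t => ?_
  obtain ⟨y, -⟩ := map_surjective_of_repWith X.hbs (Points.ofPt b t)
  obtain ⟨y, -⟩ := (Points.schemeHomeo X.U).surjective y
  exact (IsEmpty.false y).elim

/-- Minimal targets are schemes. -/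
theorem Sit.isRepSh (X : Sit S)
    (hmin : ∀ (Z : Sp S) (i : Z ⟶ X.E), IsAlgSpace Z → RepWith @IsClosedImmersion i → ¬ IsIso i → IsRepSh Z) :
    IsRepSh X.E := by
  classical
  cases subsingleton_or_nontrivial Γ(X.U.left, ⊤) with
  | inl h =>
    haveI : IsEmpty X.U.left := ⟨fun x => by
      haveI : IsEmpty (PrimeSpectrum Γ(X.U.left, ⊤)) := inferInstance
      exact IsEmpty.false (show PrimeSpectrum Γ(X.U.left, ⊤) from X.U.left.isoSpec.hom x)⟩
    exact Sit.isRepSh_of_isEmpty
  | inr h =>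
  obtain ⟨q, hq⟩ := (Ideal.minimalPrimes_eq_empty_iff (⊥ : Ideal Γ(X.U.left, ⊤))).not.2 bot_ne_top |> Set.nonempty_iff_ne_empty.2
  haveI : q.IsPrime := hq.1.1
  let B := Γ(X.W.left, ⊤)
  let C := Γ(X.U₀.left, ⊤)
  letI : Algebra B C := X.al.toAlgebra
  haveI : Algebra.Etale B C := RingHom.etale_algebraMap.1 (HasRingHomProperty.appTop (P := @Etale) X.a.left inferInstance)
  obtain ⟨B₀, C', _, _, hfg, het, ⟨e⟩⟩ := Algebra.Etale.exists_subalgebra_fg (R := ℤ) (A := B) (B := C)
  obtain ⟨s, hs⟩ := hfg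
  obtain ⟨ee, p, hee, key, hsc⟩ := exists_scaled X.g X.g_injective X.g_isIntegral q hq (fun i : s => X.al i.1)
  let s' : s ⊕ s → B := Sum.elim (fun i => i.1 ^ ee) (fun i => (p : B) * i.1)
  let F : Subring B := Subring.closure (Set.range X.W.hom.appTop.hom ∪ Set.range s')
  let strF : Γ(S, ⊤) →+* F := X.W.hom.appTop.hom.codRestrict F fun x => Subring.subset_closure (Or.inl ⟨x, rfl⟩)
  have hstrF : F.subtype.comp strF = X.W.hom.appTop.hom := RingHom.ext fun x => rfl
  let SF := specOver F strF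
  let hF : X.W ⟶ SF := toSpec strF F.subtype hstrF
  let top := (Over.mkIdTerminal (X := S)).isTerminalObj (yon S) _
  let Y := pullback (top.from X.E) (top.from ((yon S).obj SF))
  have hY : IsAlgSpace Y := isAlgSpace_pullback X.hE (IsAlgSpace.yon_obj SF) (IsAlgSpace.yon_obj _) _ _
  let V : Over S := pullback (Over.mkIdTerminal.from X.U) (Over.mkIdTerminal.from SF)
  have sqV : IsPullback (pullback.fst (Over.mkIdTerminal.from X.U) (Over.mkIdTerminal.from SF)).left
      (pullback.snd (Over.mkIdTerminal.from X.U) (Over.mkIdTerminal.from SF)).left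
      (Over.mkIdTerminal.from X.U).left (Over.mkIdTerminal.from SF).left :=
    (IsPullback.of_hasPullback _ _).map (Over.forget S)
  haveI : IsAffine (Over.mk (𝟙 S)).left := ‹IsAffine S›
  haveI : IsAffine V.left := IsAffine.of_isIso sqV.isoPullback.hom
  let pU : V ⟶ X.U := pullback.fst _ _
  let pF : V ⟶ SF := pullback.snd _ _
  let φ : (yon S).obj V ⟶ Y := pullback.lift ((yon S).map pU ≫ X.b) ((yon S).map pF) (top.hom_ext _ _)
  have sqφ : IsPullback φ ((yon S).map pU) (pullback.fst (top.from X.E) (top.from ((yon S).obj SF))) X.b := by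
    refine IsPullback.of_right ?_ (pullback.lift_fst _ _ _) (IsPullback.of_hasPullback _ _).flip
    rw [pullback.lift_snd,
      show X.b ≫ top.from X.E = (yon S).map (Over.mkIdTerminal.from X.U) from top.hom_ext _ _,
      show top.from ((yon S).obj SF) = (yon S).map (Over.mkIdTerminal.from SF) from top.hom_ext _ _]
    exact ((IsPullback.of_hasPullback _ _).map (yon S)).flip
  have hφ : RepWith @Etale φ := repWith_of_isPullback sqφ.flip X.hb
  have hφs : RepWith @Surjective φ := repWith_of_isPullback sqφ.flip X.hbs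
  let f : (yon S).obj X.W ⟶ Y := pullback.lift X.π ((yon S).map hF) (top.hom_ext _ _)
  let hh : X.U₀ ⟶ V := pullback.lift X.c (X.a ≫ hF) (Over.mkIdTerminal.hom_ext _ _)
  have hhU : hh ≫ pU = X.c := pullback.lift_fst _ _ _
  have hhF : hh ≫ pF = X.a ≫ hF := pullback.lift_snd _ _ _
  have sqf : IsPullback ((yon S).map X.a) ((yon S).map hh) f φ := by
    refine IsPullback.of_bot ?_ ?_ sqφ
    · rw [← Functor.map_comp, hhU, show f ≫ pullback.fst _ _ = X.π from pullback.lift_fst _ _ _]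
      exact X.sqU
    · apply pullback.hom_ext
      · rw [Category.assoc, Category.assoc, pullback.lift_fst, pullback.lift_fst, ← Category.assoc,
          ← Functor.map_comp, hhU, X.sqU.w]
      · rw [Category.assoc, Category.assoc, pullback.lift_snd, pullback.lift_snd, ← Functor.map_comp,
          ← Functor.map_comp, hhF]
  have hc := isChartOn_of_isPullback sqf
  haveI : IsAffineHom hh.left := isAffineHom_of_isAffine _
  -- the image
  let K := hh.left.ker
  obtain ⟨Z₂, i₂, z, hZ₂, hi₂, sq₂, -⟩ := exists_closedSub hY hφ hφs K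
    (comap_eq_of_relation hφ _ fun R x y hx hy w => by
      haveI := hx; haveI := hy
      exact comap_ker_eq_of_qc hc hc x y w)
  haveI := mono_of_closedImmersion hi₂
  obtain ⟨π', hπ'⟩ := (factors_iff hc hφ hφs (⟨z, sq₂⟩ : IsIdealOn i₂ φ K)).2 (comap_ker_self _)
  let U₂ : Over S := subOver V K
  let κ : U₂ ⟶ V := subι V K
  haveI : IsClosedImmersion κ.left := (inferInstance : IsClosedImmersion K.subschemeι)
  haveI : IsAffine U₂.left := isAffine_of_isAffineHom κ.left
  obtain ⟨h', hh'⟩ := (yon S).map_surjective (sq₂.lift ((yon S).map X.a ≫ π') ((yon S).map hh)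
    (by rw [Category.assoc, hπ', sqf.w]))
  have h'κ : h' ≫ κ = hh := (yon S).map_injective (by rw [Functor.map_comp, hh', sq₂.lift_snd])
  have sq' : IsPullback ((yon S).map X.a) ((yon S).map h') π' z := by
    refine IsPullback.of_bot ?_ (by rw [hh', sq₂.lift_fst]) sq₂
    rw [← Functor.map_comp, h'κ, hπ']
    exact sqf
  let c₂ : U₂ ⟶ X.U := κ ≫ pU
  have h'c : h' ≫ c₂ = X.c := by rw [← Category.assoc, h'κ, hhU]
  have hκs : Function.Surjective κ.left.appTop.hom := (IsClosedImmersion.isAffine_surjective_of_isAffine _).2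
  have h'inj : Function.Injective h'.left.appTop.hom := by
    rw [injective_iff_map_eq_zero]
    intro x hx
    obtain ⟨w, rfl⟩ := hκs x
    have h1 : hh.left.appTop.hom w = 0 := by
      rw [← h'κ, Over.comp_left, Scheme.Hom.comp_appTop]
      exact hx
    have h2 : w ∈ RingHom.ker κ.left.appTop.hom := by
      rw [show RingHom.ker κ.left.appTop.hom = K.ideal ⟨⊤, isAffineOpen_top _⟩ from
        Scheme.IdealSheafData.ker_subschemeι_app _ ⟨⊤, isAffineOpen_top _⟩, ideal_ker_top]
      exact h1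
    exact h2
  have hcomp : h'.left.appTop.hom.comp c₂.left.appTop.hom = X.g := by
    rw [← CommRingCat.hom_comp, ← Scheme.Hom.comp_appTop, ← Over.comp_left, h'c]
  haveI : IsReduced U₂.left := by
    haveI : _root_.IsReduced Γ(U₂.left, ⊤) := isReduced_of_injective h'.left.appTop.hom h'inj
    exact isReduced_of_isAffine_isReduced _
  haveI : IsIntegralHom c₂.left := (specMap_appTop_iff c₂.left @IsIntegralHom).1 (IsIntegralHom.SpecMap_iff.2
    (RingHom.IsIntegral.tower_bot _ _ h'inj (hcomp ▸ X.g_isIntegral)))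
  haveI : IsIntegralHom h'.left := (specMap_appTop_iff h'.left @IsIntegralHom).1 (IsIntegralHom.SpecMap_iff.2
    (RingHom.IsIntegral.tower_top c₂.left.appTop.hom _ (hcomp ▸ X.g_isIntegral)))
  haveI : UniversallyInjective (h'.left ≫ c₂.left) := by rw [← Over.comp_left, h'c]; infer_instance
  haveI : Surjective (h'.left ≫ c₂.left) := by rw [← Over.comp_left, h'c]; infer_instance
  haveI : UniversallyInjective h'.left := universallyInjective_of_comp h'.left c₂.left
  haveI : Surjective h'.left := by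
    haveI : Surjective (Spec.map h'.left.appTop) :=
      surjective_spec h'.left.appTop.hom h'inj (RingHom.IsIntegral.tower_top c₂.left.appTop.hom _ (hcomp ▸ X.g_isIntegral))
    exact (specMap_appTop_iff h'.left @Surjective).1 this
  haveI : Surjective c₂.left := Surjective.of_comp h'.left c₂.left
  haveI : UniversallyInjective c₂.left := ThickeningLib.universallyInjective_of_comp_surjective h'.left c₂.left inferInstance
  have hz : RepWith @Etale z := repWith_of_isPullback sq₂.flip hφ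
  have hzs : RepWith @Surjective z := repWith_of_isPullback sq₂.flip hφs
  have hπ'UH : IsUH π' := isUH_of_cover hz hzs sq'
  let πY : Z₂ ⟶ X.E := i₂ ≫ pullback.fst _ _
  have sqc : IsPullback z ((yon S).map c₂) πY X.b := by
    rw [Functor.map_comp]
    exact sq₂.paste_vert sqφ
  have hπY : IsUH πY := isUH_of_cover X.hb X.hbs sqc
  -- the image is a scheme
  let D := Algebra.adjoin F (Set.range fun i : s => i.1)
  let strD : Γ(S, ⊤) →+* D := (algebraMap F D).comp strF
  let SD := specOver D strD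
  let dd : SD ⟶ SF := Over.homMk (Spec.map (CommRingCat.ofHom (algebraMap F D))) (by
    show Spec.map _ ≫ Spec.map _ ≫ S.isoSpec.inv = Spec.map _ ≫ S.isoSpec.inv
    rw [← Category.assoc, ← Spec.map_comp]; rfl)
  obtain ⟨hd1, hd2, hd3⟩ := adjoin_uh F (fun i : s => i.1) ee p hee key
    (fun i => Subring.subset_closure (Or.inr ⟨Sum.inl i, rfl⟩))
    (fun i => Subring.subset_closure (Or.inr ⟨Sum.inr i, rfl⟩))
  have hdd : IsUH ((yon S).map dd) := (isUH_yon_map_iff dd).2 ⟨hd1, hd2, hd3⟩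
  let hD : X.W ⟶ SD := toSpec strD D.val.toRingHom (RingHom.ext fun x => rfl)
  have hDd : hD ≫ dd = hF := Over.OverMorphism.ext (by
    show (X.W.left.isoSpec.hom ≫ Spec.map _) ≫ Spec.map _ = X.W.left.isoSpec.hom ≫ Spec.map _
    rw [Category.assoc, ← Spec.map_comp]; rfl)
  have hB₀ : ∀ x : B₀, (x : B) ∈ D := fun x => by
    have : B₀ ≤ D.restrictScalars ℤ := by
      rw [← hs]
      exact Algebra.adjoin_le fun x hx => Algebra.subset_adjoin ⟨⟨x, hx⟩, rfl⟩
    exact this x.2
  let ιD : B₀ →+* D := B₀.val.toRingHom.codRestrict D hB₀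
  let β : CommRingCat.of ↥B₀ ⟶ B := CommRingCat.ofHom (algebraMap ↥B₀ B)
  let γ : CommRingCat.of ↥B₀ ⟶ CommRingCat.of C' := CommRingCat.ofHom (algebraMap ↥B₀ C')
  let ε : CommRingCat.of C' ⟶ C := CommRingCat.ofHom
    (e.symm.toRingEquiv.toRingHom.comp (Algebra.TensorProduct.includeRight : C' →ₐ[↥B₀] B ⊗[↥B₀] C').toRingHom)
  have hpo : IsPushout β γ X.a.left.appTop ε :=
    (CommRingCat.isPushout_tensorProduct ↥B₀ B C').of_iso (Iso.refl _) (Iso.refl _) (Iso.refl _)
      e.symm.toRingEquiv.toCommRingCatIso (by simp [β]) (by simp [γ])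
      (by ext x; exact e.symm.commutes x) (by ext x; rfl)
  have big : IsPullback (X.U₀.left.isoSpec.hom ≫ Spec.map ε) X.a.left (Spec.map γ)
      (X.W.left.isoSpec.hom ≫ Spec.map β) :=
    (isPullback_SpecMap_of_isPushout _ _ _ _ hpo).flip.of_iso X.U₀.left.isoSpec.symm (Iso.refl _)
      X.W.left.isoSpec.symm (Iso.refl _) (by simp) (by simp [Scheme.isoSpec_inv_naturality]) (by simp) (by simp)
  let dB : SD.left ⟶ Spec (CommRingCat.of ↥B₀) := Spec.map (CommRingCat.ofHom ιD)
  have hdB : hD.left ≫ dB = X.W.left.isoSpec.hom ≫ Spec.map β := by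
    show (X.W.left.isoSpec.hom ≫ Spec.map _) ≫ Spec.map _ = _
    rw [Category.assoc, ← Spec.map_comp]; rfl
  let V₀ : Over S := Over.mk (pullback.snd (Spec.map γ) dB ≫ SD.hom)
  haveI : IsAffine V₀.left := inferInstanceAs (IsAffine (pullback (Spec.map γ) dB))
  let q₀ : V₀ ⟶ SD := Over.homMk (pullback.snd (Spec.map γ) dB)
  haveI : Etale (Spec.map γ) := HasRingHomProperty.Spec_iff.2 (RingHom.etale_algebraMap.2 het)
  have hq₀ : Etale q₀.left := MorphismProperty.pullback_snd (P := @Etale) _ _ ‹_›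
  let k : X.U₀ ⟶ V₀ := Over.homMk (pullback.lift (X.U₀.left.isoSpec.hom ≫ Spec.map ε) (X.a.left ≫ hD.left)
      (by rw [big.w, Category.assoc, hdB])) (by
    show pullback.lift _ _ _ ≫ pullback.snd _ _ ≫ SD.hom = X.U₀.hom
    rw [pullback.lift_snd_assoc, Category.assoc, Over.w, Over.w])
  have hkq : k ≫ q₀ = X.a ≫ hD := Over.OverMorphism.ext (pullback.lift_snd _ _ _)
  have sq₁ : IsPullback k X.a q₀ hD := by
    refine IsPullback.of_map (Over.forget S) hkq ?_
    refine IsPullback.of_right ?_ (congrArg Over.Hom.left hkq) (IsPullback.of_hasPullback (Spec.map γ) dB)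
    show IsPullback (pullback.lift _ _ _ ≫ pullback.fst _ _) X.a.left (Spec.map γ) (hD.left ≫ dB)
    rw [pullback.lift_fst, hdB]
    exact big
  obtain ⟨W₂, ⟨e₂⟩⟩ := isRepSh_of_descended hZ₂ hπ'UH hz hzs hdd hD (i₂ ≫ pullback.snd _ _)
    (by rw [← Category.assoc, hπ', pullback.lift_snd, hDd]) hq₀ sq₁ sq'
  obtain ⟨πW, hπW⟩ := (yon S).map_surjective (π' ≫ e₂.inv)
  have hπWUH : IsUH ((yon S).map πW) := by
    rw [hπW]
    exact hπ'UH.of_isPullback (IsPullback.of_horiz_isIso (fst := 𝟙 _) (snd := π' ≫ e₂.inv) (f := π') (g := e₂.hom)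
      ⟨by simp⟩)
  obtain ⟨hw1, hw2, hw3⟩ := (isUH_yon_map_iff πW).1 hπWUH
  haveI := hw1; haveI := hw3
  haveI : IsAffine W₂.left := ChevLib.isAffine_of_surjective_universallyClosed πW.left
  -- the new situation
  obtain ⟨a₂, ha₂⟩ := (yon S).map_surjective (z ≫ e₂.inv)
  let π₂ : (yon S).obj W₂ ⟶ X.E := e₂.hom ≫ πY
  have sqU₂ : IsPullback ((yon S).map a₂) ((yon S).map c₂) π₂ X.b :=
    sqc.of_iso (Iso.refl _) e₂.symm (Iso.refl _) (Iso.refl _) (by simp [ha₂]) (by simp) (by simp [π₂]) (by simp)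
  haveI : Etale a₂.left := (repWith_yon_map_iff (P := (@Etale : MorphismProperty Scheme.{u})) a₂).1
    (repWith_of_isPullback sqU₂.flip X.hb)
  haveI : Surjective a₂.left := (repWith_yon_map_iff (P := (@Surjective : MorphismProperty Scheme.{u})) a₂).1
    (repWith_of_isPullback sqU₂.flip X.hbs)
  let X₂ : Sit S :=
    { E := X.E, hE := X.hE, W := W₂, π := π₂, hπ := isUH_iso_comp e₂ hπY, U := X.U, b := X.b, hb := X.hb,
      hbs := X.hbs, U₀ := U₂, a := a₂, c := c₂, sqU := sqU₂, affW := inferInstance, affU := X.affU,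
      redU := X.redU, redW := isReduced_of_flat_surjective a₂.left }
  obtain ⟨w₂F, hw₂F⟩ := (yon S).map_surjective (e₂.hom ≫ i₂ ≫ pullback.snd (top.from X.E) (top.from ((yon S).obj SF)))
  have hwF : a₂ ≫ w₂F = κ ≫ pF := (yon S).map_injective (by
    rw [Functor.map_comp, Functor.map_comp, hw₂F, ha₂, Category.assoc, e₂.inv_hom_id_assoc, ← Category.assoc,
      sq₂.w, Category.assoc, pullback.lift_snd])
  let ν : F →+* Γ(W₂.left, ⊤) := w₂F.left.appTop.hom.comp (Scheme.ΓSpecIso (CommRingCat.of F)).inv.hom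
  let τ : F →+* Γ(U₂.left, ⊤) := (κ ≫ pF).left.appTop.hom.comp (Scheme.ΓSpecIso (CommRingCat.of F)).inv.hom
  have hτν : ∀ x, τ x = a₂.left.appTop.hom (ν x) := fun x => by
    simp only [τ, ν, RingHom.comp_apply, ← hwF, Over.comp_left, Scheme.Hom.comp_appTop, CommRingCat.hom_comp]
    rfl
  have hτh : ∀ x : F, h'.left.appTop.hom (τ x) = X.al x.1 := fun x => by
    have e1 := congrArg (fun m : X.U₀ ⟶ SF => m.left.appTop.hom ((Scheme.ΓSpecIso (CommRingCat.of F)).inv.hom x))
      (show h' ≫ κ ≫ pF = X.a ≫ hF by rw [← Category.assoc, h'κ, hhF])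
    simp only [Over.comp_left, Scheme.Hom.comp_appTop, CommRingCat.hom_comp, RingHom.comp_apply] at e1
    simp only [τ, RingHom.comp_apply, Over.comp_left, Scheme.Hom.comp_appTop, CommRingCat.hom_comp]
    exact e1.trans (congrArg X.al (toSpec_appTop strF F.subtype hstrF x))
  let g₂ : Γ(X.U.left, ⊤) →+* Γ(U₂.left, ⊤) := c₂.left.appTop.hom
  letI : Algebra Γ(X.U.left, ⊤) Γ(U₂.left, ⊤) := g₂.toAlgebra
  have hspan0 : ∀ x, x ∈ Submodule.span Γ(X.U.left, ⊤) (Set.range τ) := fun x => by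
    obtain ⟨w, rfl⟩ := hκs x
    letI : Algebra Γ(S, ⊤) Γ(X.U.left, ⊤) := (Over.mkIdTerminal.from X.U).left.appTop.hom.toAlgebra
    letI : Algebra Γ(S, ⊤) Γ(SF.left, ⊤) := (Over.mkIdTerminal.from SF).left.appTop.hom.toAlgebra
    obtain ⟨et, het⟩ := exists_tensor_equiv (R := Γ(S, ⊤)) (S := Γ(X.U.left, ⊤)) (R' := Γ(SF.left, ⊤))
      (isPushout_appTop_of_isPullback sqV) rfl rfl
    obtain ⟨t, rfl⟩ := et.surjective w
    induction t using TensorProduct.induction_on with
    | zero => simp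
    | add a b ha hb => rw [map_add, map_add]; exact add_mem ha hb
    | tmul r y =>
      rw [het, map_mul]
      have hy : ∃ x, τ x = κ.left.appTop.hom (pF.left.appTop.hom y) :=
        ⟨(Scheme.ΓSpecIso (CommRingCat.of F)).hom.hom y, by
          simp only [τ, RingHom.comp_apply, Over.comp_left, Scheme.Hom.comp_appTop, CommRingCat.hom_comp]
          congr 2
          exact RingHom.congr_fun (congrArg CommRingCat.Hom.hom (Scheme.ΓSpecIso (CommRingCat.of F)).hom_inv_id) y⟩
      obtain ⟨x, hx⟩ := hy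
      rw [← hx]
      exact Submodule.smul_mem _ r (Submodule.subset_span ⟨x, rfl⟩)
  have hgen : ∀ x : F, τ x ∈ Subring.closure (Set.range g₂ ∪ Set.range (fun i => τ ⟨s' i, Subring.subset_closure (Or.inr ⟨i, rfl⟩)⟩)) := by
    rintro ⟨x, hx⟩
    induction hx using Subring.closure_induction with
    | mem y hy =>
      rcases hy with ⟨t, rfl⟩ | ⟨i, rfl⟩
      · refine Subring.subset_closure (Or.inl ⟨X.U.hom.appTop.hom t, h'inj ?_⟩)
        rw [hτh, ← RingHom.comp_apply, hcomp]
        exact (RingHom.congr_fun (appTop_hom_over X.c) t).trans (RingHom.congr_fun (appTop_hom_over X.a) t).symm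
      · exact Subring.subset_closure (Or.inr ⟨i, rfl⟩)
    | zero => exact (map_zero τ).symm ▸ zero_mem _
    | one => exact (map_one τ).symm ▸ one_mem _
    | add y z hy hz h1 h2 => exact (map_add τ ⟨y, hy⟩ ⟨z, hz⟩).symm ▸ add_mem h1 h2
    | neg y hy h1 => exact (map_neg τ ⟨y, hy⟩).symm ▸ neg_mem h1
    | mul y z hy hz h1 h2 => exact (map_mul τ ⟨y, hy⟩ ⟨z, hz⟩).symm ▸ mul_mem h1 h2
  haveI : Algebra.IsIntegral Γ(X.U.left, ⊤) Γ(U₂.left, ⊤) :=
    ⟨RingHom.IsIntegral.tower_bot _ _ h'inj (hcomp ▸ X.g_isIntegral)⟩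
  haveI : Algebra.FiniteType Γ(X.U.left, ⊤) Γ(U₂.left, ⊤) := by
    let T : Set Γ(U₂.left, ⊤) := Set.range fun i => τ ⟨s' i, Subring.subset_closure (Or.inr ⟨i, rfl⟩)⟩
    refine ⟨⟨(Set.finite_range (fun i => τ ⟨s' i, Subring.subset_closure (Or.inr ⟨i, rfl⟩)⟩)).toFinset, ?_⟩⟩
    rw [Set.Finite.coe_toFinset, eq_top_iff]
    intro x _
    refine Submodule.span_induction (fun y hy => ?_) (zero_mem _) (fun y z _ _ => add_mem)
      (fun r y _ hy => Subalgebra.smul_mem _ hy r) (hspan0 x)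
    obtain ⟨y, rfl⟩ := hy
    have : Subring.closure (Set.range g₂ ∪ T) ≤ (Algebra.adjoin Γ(X.U.left, ⊤) T).toSubring :=
      Subring.closure_le.2 (Set.union_subset (by rintro _ ⟨r, rfl⟩; exact Subalgebra.algebraMap_mem _ r)
        fun y hy => Algebra.subset_adjoin hy)
    exact this (hgen y)
  haveI : Module.Finite Γ(X.U.left, ⊤) Γ(U₂.left, ⊤) := Algebra.IsIntegral.finite
  obtain ⟨G, hG, hGs⟩ := (Submodule.fg_span_iff_fg_span_finset_subset (R := Γ(X.U.left, ⊤)) (Set.range τ)).1
    (by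
      rw [show Submodule.span Γ(X.U.left, ⊤) (Set.range τ) = ⊤ from eq_top_iff.2 fun x _ => hspan0 x]
      exact Module.Finite.fg_top)
  choose F' hF' using fun i : G => hG i.2
  have hr : ∀ x : F, ∃ r, r ∉ q ∧ g₂ r * τ x ∈ g₂.range := fun x => by
    refine exists_mul_mem_of_adjoin g₂ q _ ?_ (hgen x)
    rintro _ ⟨i, rfl⟩
    obtain ⟨r, hr, r', hr'⟩ : ∃ r, r ∉ q ∧ X.g r * X.al (s' i) ∈ X.g.range := by
      rcases i with i | i
      · simpa [s'] using (hsc i).1
      · simpa [s'] using (hsc i).2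
    refine ⟨r, hr, r', h'inj ?_⟩
    rw [map_mul, hτh, ← RingHom.comp_apply, ← RingHom.comp_apply, hcomp]
    exact hr'
  choose r hrq hrm using fun i : G => hr (F' i)
  refine X₂.isRepSh_of_spanned hmin (fun i : G => ν (F' i)) ?_ (∏ i, r i) (fun h0 => ?_) fun i => ?_
  · intro x
    have h1 := hspan0 x
    rw [hGs] at h1
    refine Submodule.span_mono ?_ h1
    intro y hy
    exact ⟨⟨y, hy⟩, (hτν _).symm.trans (hF' ⟨y, hy⟩)⟩
  · obtain ⟨i, -, hi⟩ := ‹q.IsPrime›.prod_mem_iff.1 (h0 ▸ q.zero_mem : ∏ i, r i ∈ q)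
    exact hrq i hi
  · show g₂ (∏ j, r j) * a₂.left.appTop.hom (ν (F' i)) ∈ g₂.range
    rw [← hτν, ← Finset.prod_erase_mul _ _ (Finset.mem_univ i), map_mul, mul_assoc]
    exact mul_mem ⟨_, rfl⟩ (hrm i)

end UHRepLib
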