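import Groth.Agent.UHRepLib.Image
import Groth.Agent.MonoPtLib.MinClosed
import Groth.Agent.ThickQuotLib.Scheme
import Groth.Agent.AlgSpRegLib.CutByApps
import Groth.Agent.AlgSpLib.ShriekSp
import Groth.Agent.S10184

/-!
# A space with a universal homeomorphism from a scheme is a scheme
-/

set_option autoImplicit false
set_option linter.all false
set_option backward.isDefEq.respectTransparency false
set_option backward.isDefEq.respectTransparency.types false
set_option maxHeartbeats 800000

noncomputable section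

universe u

open CategoryTheory CategoryTheory.Limits AlgebraicGeometry AlgSp AlgSpLib AlgSpRegLib EtThickLib Opposite

namespace UHRepLib

variable {S : Scheme.{u}}

theorem not_rep {F : Sp S} (h : ¬ IsRepSh F) : ¬ F.obj.IsRepresentable := fun hr => by
  obtain ⟨T, ⟨e⟩⟩ := hr.has_representation
  exact h ⟨T, ⟨AlgSp.isoOfRepresentableBy e⟩⟩

theorem isRepSh_of_isRepresentable {F : Sp S} (hr : F.obj.IsRepresentable) : IsRepSh F := by
  obtain ⟨T, ⟨e⟩⟩ := hr.has_representation
  exact ⟨T, ⟨AlgSp.isoOfRepresentableBy e⟩⟩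

theorem isQuasiSeparatedSp_of_uh {E : Sp S} (hE : IsAlgSpace E) {W : Over S} [IsAffine W.left]
    {π : (yon S).obj W ⟶ E} (hπ : IsUH π) : IsQuasiSeparatedSp E := by
  refine Groth.Agent.S10184.result (⟨E, hE⟩ : AlgSp.Space S) fun U V P x y fst snd hU hV sqP => ?_
  haveI := hU; haveI := hV
  obtain ⟨DA, dA, qA, sqA⟩ := exists_isPullback_yon π x hπ.integral.rep
  obtain ⟨DB, dB, qB, sqB⟩ := exists_isPullback_yon π y hπ.integral.rep
  haveI : IsIntegralHom qA.left := ((isUH_yon_map_iff qA).1 (hπ.of_isPullback sqA)).1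
  haveI : IsIntegralHom qB.left := ((isUH_yon_map_iff qB).1 (hπ.of_isPullback sqB)).1
  haveI : IsAffine DA.left := isAffine_of_isAffineHom qA.left
  haveI : IsAffine DB.left := isAffine_of_isAffineHom qB.left
  let G : Over S := pullback dA dB
  have sqG : IsPullback (pullback.fst dA dB).left (pullback.snd dA dB).left dA.left dB.left :=
    (IsPullback.of_hasPullback dA dB).map (Over.forget S)
  haveI : IsAffine G.left := IsAffine.of_isIso sqG.isoPullback.hom
  obtain ⟨μ, hμ⟩ := (yon S).map_surjective (sqP.lift ((yon S).map (pullback.fst dA dB ≫ qA))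
    ((yon S).map (pullback.snd dA dB ≫ qB)) (by
      rw [Functor.map_comp, Functor.map_comp, Category.assoc, Category.assoc, ← sqA.w, ← sqB.w,
        ← Category.assoc, ← Category.assoc, ← Functor.map_comp, ← Functor.map_comp, pullback.condition]))
  obtain ⟨D, d, q, sqD⟩ := exists_isPullback_yon π ((yon S).map fst ≫ x) hπ.integral.rep
  haveI : Surjective q.left := ((isUH_yon_map_iff q).1 (hπ.of_isPullback sqD)).2.2
  obtain ⟨lA, hlA⟩ := (yon S).map_surjective (sqA.lift ((yon S).map d) ((yon S).map (q ≫ fst))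
    (by rw [sqD.w, Functor.map_comp, Category.assoc]))
  obtain ⟨lB, hlB⟩ := (yon S).map_surjective (sqB.lift ((yon S).map d) ((yon S).map (q ≫ snd))
    (by rw [sqD.w, Functor.map_comp, Category.assoc, sqP.w]))
  let lG : D ⟶ G := pullback.lift lA lB ((yon S).map_injective (by
    rw [Functor.map_comp, Functor.map_comp, hlA, hlB, sqA.lift_fst, sqB.lift_fst]))
  have hlG : lG ≫ μ = q := (yon S).map_injective (sqP.hom_ext
    (by
      rw [Functor.map_comp, Category.assoc, hμ, sqP.lift_fst, ← Functor.map_comp, ← Category.assoc,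
        pullback.lift_fst, Functor.map_comp, hlA, sqA.lift_snd, ← Functor.map_comp])
    (by
      rw [Functor.map_comp, Category.assoc, hμ, sqP.lift_snd, ← Functor.map_comp, ← Category.assoc,
        pullback.lift_snd, Functor.map_comp, hlB, sqB.lift_snd, ← Functor.map_comp]))
  haveI : Surjective (lG.left ≫ μ.left) := by rw [← Over.comp_left, hlG]; infer_instance
  haveI : Surjective μ.left := Surjective.of_comp lG.left μ.left
  exact μ.left.surjective.compactSpace μ.left.continuous

theorem exists_reduced (W : Over S) [IsAffine W.left] :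
    ∃ (W' : Over S) (r : W' ⟶ W), IsAffine W'.left ∧ IsReduced W'.left ∧ IsUH ((yon S).map r) := by
  let C : TopologicalSpace.Closeds W.left := ⊤
  let I := Scheme.IdealSheafData.vanishingIdeal C
  haveI : Surjective I.subschemeι := ⟨fun x => by
    have : x ∈ Set.range I.subschemeι := by
      rw [Scheme.IdealSheafData.range_subschemeι, Scheme.IdealSheafData.coe_support_vanishingIdeal]
      trivial
    exact this⟩
  haveI : IsClosedImmersion (subι W I).left := (inferInstance : IsClosedImmersion I.subschemeι)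
  refine ⟨subOver W I, subι W I, isAffine_of_isAffineHom (subι W I).left, DevissLib.isReduced_vanishingIdeal' C,
    (isUH_yon_map_iff _).2 ⟨inferInstance, inferInstance, ‹Surjective I.subschemeι›⟩⟩

theorem isUH_comp {F G H : Sp S} {f : F ⟶ G} {g : G ⟶ H} (hf : IsUH f) (hg : IsUH g) : IsUH (f ≫ g) :=
  ⟨repWith_comp hf.integral hg.integral, repWith_comp hf.radicial hg.radicial, repWith_comp hf.surj hg.surj⟩

/-- Over an affine base, the target of a universal homeomorphism from an affine scheme is a scheme. -/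
theorem isRepSh_of_uh_affine_base [IsAffine S] {E : Sp S} (hE : IsAlgSpace E) {W : Over S} [IsAffine W.left]
    {π : (yon S).obj W ⟶ E} (hπ : IsUH π) : IsRepSh E := by
  by_contra hn
  have hqc : IsQuasiCompactSp E := isQuasiCompactSp_of_surjective hE
    (f := π) (map_surjective_of_repWith hπ.surj) (isQuasiCompactSp_yon W)
  have hqs := isQuasiSeparatedSp_of_uh hE hπ
  obtain ⟨U₁, b₁, hU₁, hb₁, hb₁s⟩ := exists_affine_chart hqc
  haveI := hU₁
  obtain ⟨Z, ζ, hζ, hnZ, hmin⟩ :=
    Groth.Agent.MonoPtLib.exists_minimal_nonSch b₁ hb₁ hb₁s hE hqc hqs (not_rep hn)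
  have hZ : IsAlgSpace Z := isAlgSpace_of_representable hE ζ hζ.rep
  have hnZ' : ¬ IsRepSh Z := fun ⟨T, ⟨e⟩⟩ => hnZ (AlgSp.representableByOfIso e).isRepresentable
  have hmin' : ∀ (Z' : Sp S) (i : Z' ⟶ Z), IsAlgSpace Z' → RepWith @IsClosedImmersion i → ¬ IsIso i → IsRepSh Z' :=
    fun Z' i _ hi hni => isRepSh_of_isRepresentable (hmin Z' i hi hni)
  -- the space is reduced
  obtain ⟨Zr, ir, hZr', hir, hrange, hZr⟩ := exists_isRedInduced hZ Set.univ isClosed_univ
  have hr : IsReducedSp Z := by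
    by_cases h : IsIso ir
    · obtain ⟨U, p, hp, hps, hU⟩ := hZr
      exact ⟨U, p ≫ ir, repWith_comp hp (repWith_of_isIso ir), repWith_comp hps (repWith_of_isIso ir), hU⟩
    · refine (hnZ' (ThickQuotLib.isRepSh_of_thick hZr' hZ ⟨hir.rep, fun T W g fst snd sq => ?_⟩
        (hmin' Zr ir hZr' hir h))).elim
      refine ⟨hir.property g fst snd sq, ⟨fun t => ?_⟩⟩
      have h1 : AlgSp.Points.map g (AlgSp.Points.schemeHomeo T t) ∈ Set.range (AlgSp.Points.map ir) := by
        rw [hrange]; trivial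
      obtain ⟨z, hz⟩ := h1
      obtain ⟨w, -, hw⟩ := exists_point_isPullback sq z _ hz
      obtain ⟨w, rfl⟩ := (AlgSp.Points.schemeHomeo W).surjective w
      rw [AlgSp.Points.map_yon_map_apply] at hw
      exact ⟨w, (AlgSp.Points.schemeHomeo T).injective hw⟩
  -- the covering
  obtain ⟨WZ, wW, wZ, hWZ⟩ : ∃ (WZ : Over S) (wW : WZ ⟶ W) (wZ : (yon S).obj WZ ⟶ Z),
      IsPullback wZ ((yon S).map wW) ζ π := ⟨_, hζ.rep.snd π, hζ.rep.fst π, hζ.rep.isPullback π⟩
  haveI : IsClosedImmersion wW.left := (repWith_yon_map_iff (P := (@IsClosedImmersion : MorphismProperty Scheme.{u})) wW).1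
    (repWith_of_isPullback hWZ hζ)
  haveI : IsAffine WZ.left := isAffine_of_isAffineHom wW.left
  have hwZ : IsUH wZ := hπ.of_isPullback hWZ.flip
  obtain ⟨W', r, hW', hW'r, hrUH⟩ := exists_reduced WZ
  haveI := hW'
  have hπ' : IsUH ((yon S).map r ≫ wZ) := isUH_comp hrUH hwZ
  have hZqc : IsQuasiCompactSp Z := isQuasiCompactSp_of_surjective hZ
    (f := (yon S).map r ≫ wZ) (map_surjective_of_repWith hπ'.surj) (isQuasiCompactSp_yon W')
  obtain ⟨U, b, hU, hb, hbs⟩ := exists_affine_chart hZqc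
  obtain ⟨U₀, a, c, sqU⟩ := exists_isPullback_yon ((yon S).map r ≫ wZ) b hπ'.integral.rep
  exact hnZ' (Sit.isRepSh
    { E := Z, hE := hZ, W := W', π := _, hπ := hπ', U := U, b := b, hb := hb, hbs := hbs, U₀ := U₀, a := a,
      c := c, sqU := sqU, affW := hW', affU := hU, redU := isReduced_of_chart hr hb, redW := hW'r } hmin')

/-- The target of a universal homeomorphism from an affine scheme over an affine open of the base is a scheme. -/
theorem isRepSh_of_uh_affine {E : Sp S} (hE : IsAlgSpace E) {W : Over S} [IsAffine W.left]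
    {π : (yon S).obj W ⟶ E} (hπ : IsUH π) (S₀ : S.Opens) (hS₀ : IsAffineOpen S₀) (hW : ∀ w, W.hom w ∈ S₀) :
    IsRepSh E := by
  haveI : IsAffine S₀.toScheme := hS₀
  let O : Over S := Over.mk S₀.ι
  let top := (Over.mkIdTerminal (X := S)).isTerminalObj (yon S) _
  let o : O ⟶ Over.mk (𝟙 S) := Over.mkIdTerminal.from O
  have ho : RepWith @IsOpenImmersion ((yon S).map o) :=
    (repWith_yon_map_iff (P := (@IsOpenImmersion : MorphismProperty Scheme.{u})) o).2 (by
      rw [Over.mkIdTerminal_from_left]; exact inferInstanceAs (IsOpenImmersion S₀.ι))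
  haveI : Mono ((yon S).map o) := mono_of_repWith (fun g (_ : IsOpenImmersion g) => inferInstance) ho
  obtain ⟨m, hm⟩ := (exists_factor_iff ho (top.from E)).2 (by
    rintro _ ⟨x, rfl⟩
    obtain ⟨y, rfl⟩ := map_surjective_of_repWith hπ.surj x
    obtain ⟨w, rfl⟩ := (Points.schemeHomeo W).surjective y
    refine ⟨Points.schemeHomeo O (⟨W.hom w, hW w⟩ : S₀.toScheme), ?_⟩
    rw [← Points.map_comp, show π ≫ top.from E = (yon S).map (Over.mkIdTerminal.from W) from top.hom_ext _ _,
      Points.map_yon_map_apply, Points.map_yon_map_apply]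
    refine congrArg _ ?_
    rw [Over.mkIdTerminal_from_left, Over.mkIdTerminal_from_left]
    rfl)
  obtain ⟨i₀⟩ := Shriek.exists_iso_prod S₀.ι E
  have hsub : ∀ {F : Sp S} (x y : F ⟶ (yon S).obj O), x = y := fun x y =>
    (cancel_mono ((yon S).map o)).1 (top.hom_ext _ _)
  let i₁ : ((yon S).obj O ⨯ E) ≅ E :=
    { hom := prod.snd
      inv := prod.lift m (𝟙 E)
      hom_inv_id := prod.hom_ext (hsub _ _) (by simp)
      inv_hom_id := prod.lift_snd _ _ }
  let E' := (Shriek.res S₀.ι).obj E
  let iE : (Shriek.shr S₀.ι).obj E' ≅ E := i₀ ≪≫ i₁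
  have hE' : IsAlgSpace E' := Shriek.isAlgSpace_res S₀.ι hE
  obtain ⟨T, e, ξ, hξ⟩ := Shriek.exists_over_lift (π ≫ iE.inv)
  haveI : IsIso e.hom.left := inferInstanceAs (IsIso ((Over.forget S).map e.hom))
  haveI : IsAffine T.left := IsAffine.of_isIso (inv e.hom.left)
  have key : ∀ {P : MorphismProperty Scheme.{u}} [P.IsStableUnderBaseChange], RepWith P π → RepWith P ξ := by
    intro P _ hP
    haveI : P.RespectsIso := MorphismProperty.IsStableUnderBaseChange.respectsIso
    have h1 : RepWith P (π ≫ iE.inv) :=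
      ((RepWith (S := S) P).cancel_right_of_respectsIso π iE.inv).2 hP
    rw [hξ, (RepWith (S := S) P).cancel_left_of_respectsIso, (RepWith (S := S) P).cancel_left_of_respectsIso] at h1
    exact Shriek.repWith_shr_map_iff.1 h1
  obtain ⟨M, ⟨eM⟩⟩ := isRepSh_of_uh_affine_base hE' (π := ξ) ⟨key hπ.integral, key hπ.radicial, key hπ.surj⟩
  exact ⟨(Over.map S₀.ι).obj M,
    ⟨(asIso (Shriek.yonMap S₀.ι M)).symm ≪≫ (Shriek.shr S₀.ι).mapIso eM ≪≫ iE⟩⟩

/-- The target of a universal homeomorphism from a scheme is a scheme. -/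
theorem isRepSh_of_uh {E : Sp S} (hE : IsAlgSpace E) {T : Over S} {i : (yon S).obj T ⟶ E} (hi : IsUH i) :
    IsRepSh E := by
  have hT := IsAlgSpace.yon_obj (S := S) T
  have sqid : IsPullback (𝟙 ((yon S).obj T)) i i (𝟙 E) :=
    IsPullback.of_horiz_isIso (fst := 𝟙 ((yon S).obj T)) (snd := i) (f := i) (g := 𝟙 E) ⟨by simp⟩
  have hbij : Function.Bijective (Points.map i) :=
    ⟨hi.univInjective hT hE hE (𝟙 E) _ _ sqid, map_surjective_of_repWith hi.surj⟩
  have hcl : IsClosedMap (Points.map i) := hi.univClosed hT hE hE (𝟙 E) _ _ sqid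
  choose A hA hxA S₀ hAS₀ hS₀ using fun x : T.left => (show ∃ A : T.left.Opens, IsAffineOpen A ∧ x ∈ A ∧
      ∃ S₀ : S.Opens, A ≤ T.hom ⁻¹ᵁ S₀ ∧ IsAffineOpen S₀ from by
    obtain ⟨S₀, hS₀, hx, -⟩ := exists_isAffineOpen_mem_and_subset (U := (⊤ : S.Opens)) (x := T.hom x) trivial
    obtain ⟨A, hA, hxA, hAS⟩ := exists_isAffineOpen_mem_and_subset (U := T.hom ⁻¹ᵁ S₀) (x := x) hx
    exact ⟨A, hA, hxA, S₀, hAS, hS₀⟩)
  let V : T.left → Over S := fun x => Over.mk ((A x).ι ≫ T.hom)
  let u : ∀ x, V x ⟶ T := fun x => Over.homMk (A x).ι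
  have hu : ∀ x, RepWith @IsOpenImmersion ((yon S).map (u x)) := fun x =>
    (repWith_yon_map_iff (P := (@IsOpenImmersion : MorphismProperty Scheme.{u})) (u x)).2
      (inferInstanceAs (IsOpenImmersion (A x).ι))
  have key : ∀ x, ∃ (M : Over S) (f : (yon S).obj M ⟶ E), RepWith @IsOpenImmersion f ∧
      Set.range (Points.map f) = Points.map i '' Set.range (Points.map ((yon S).map (u x))) := fun x => by
    let O := Points.map i '' Set.range (Points.map ((yon S).map (u x)))
    have hO : IsOpen O := by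
      rw [← isClosed_compl_iff, ← Set.image_compl_eq hbij]
      exact hcl _ (isOpenMap_map_of_isEtaleMor (IsAlgSpace.yon_obj _)
        (isEtaleMor_of_openImmersion (hu x))).isOpen_range.isClosed_compl
    let j := openSubι E O
    have hj := repWith_openSubι E hO
    have sq := IsPullback.of_hasPullback i j
    have hjP : RepWith @IsOpenImmersion (pullback.fst i j) := repWith_of_isPullback sq.flip hj
    have hr : Set.range (Points.map ((yon S).map (u x))) = Set.range (Points.map (pullback.fst i j)) := by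
      rw [range_map_of_isPullback sq.flip, range_openSubι]
      exact (Set.preimage_image_eq _ hbij.1).symm
    obtain ⟨e, he⟩ := exists_iso_of_range_eq (hu x) hjP hr
    haveI : IsAffine (V x).left := hA x
    obtain ⟨M, ⟨eM⟩⟩ := isRepSh_of_uh_affine (isAlgSpace_openSub hE hO)
      (isUH_iso_comp e (hi.of_isPullback sq)) (S₀ x) (hS₀ x) fun w => hAS₀ x w.2
    refine ⟨M, eM.hom ≫ j, repWith_comp (repWith_of_isIso eM.hom) hj, ?_⟩
    refine Eq.trans ?_ (range_openSubι E (W := O))
    ext z
    constructor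
    · rintro ⟨y, rfl⟩
      exact ⟨Points.map eM.hom y, (Points.map_comp eM.hom j y).symm⟩
    · rintro ⟨y, rfl⟩
      exact ⟨Points.map eM.inv y, by rw [← Points.map_comp, eM.inv_hom_id_assoc]⟩
  choose M f hf hrange using key
  refine isRepSh_of_openCover f hf fun T' b t => ?_
  obtain ⟨y, hy⟩ := hbij.2 (Points.ofPt b t)
  obtain ⟨x, rfl⟩ := (Points.schemeHomeo T).surjective y
  refine ⟨x, ?_⟩
  have hb : Points.ofPt b t ∈ Set.range (Points.ofPt (f x)) := by
    rw [range_ofPt, hrange]
    refine ⟨_, ⟨Points.schemeHomeo (V x) (⟨x, hxA x⟩ : (A x).toScheme), ?_⟩, hy⟩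
    rw [Points.map_yon_map_apply]
    rfl
  obtain ⟨v, hv⟩ := hb
  obtain ⟨w, -, hw⟩ := (ofPt_eq_ofPt_iff ((hf x).rep.isPullback' b) v t).1 hv
  exact ⟨w, hw⟩

end UHRepLib
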