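import Mathlib.AlgebraicGeometry.Morphisms.UniversallyInjective
import Mathlib.AlgebraicGeometry.Morphisms.Integral
import Mathlib.FieldTheory.PurelyInseparable.Basic
import Mathlib.RingTheory.Flat.Basic
import Mathlib.RingTheory.RingHom.Flat
import Mathlib.LinearAlgebra.TensorProduct.Pi
import Mathlib.RingTheory.Ideal.MinimalPrime.Basic

/-!
# Rings: radicial integral extensions
-/

set_option autoImplicit false
set_option linter.all false

universe u

open CategoryTheory AlgebraicGeometry Polynomial TensorProduct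

namespace UHRepLib

variable {A B : Type u} [CommRing A] [CommRing B] (f : A →+* B)

theorem universallyInjective_spec
    (h : ∀ (K : Type u) [Field K] (φ ψ : B →+* K), φ.comp f = ψ.comp f → φ = ψ) :
    UniversallyInjective (Spec.map (CommRingCat.ofHom f)) := by
  refine ((tfae_universallyInjective _).out 0 1).2 ?_
  intro K _ g₁ g₂ hg
  obtain ⟨φ, rfl⟩ := Spec.map_surjective g₁
  obtain ⟨ψ, rfl⟩ := Spec.map_surjective g₂
  simp only [← Spec.map_comp] at hg
  rw [CommRingCat.hom_ext (h K φ.hom ψ.hom (congrArg CommRingCat.Hom.hom (Spec.map_injective hg)))]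

theorem field_ext_of_spec [UniversallyInjective (Spec.map (CommRingCat.ofHom f))] (K : Type u) [Field K]
    (φ ψ : B →+* K) (h : φ.comp f = ψ.comp f) : φ = ψ := by
  have h2 : ∀ (K : Type u) [Field K], Function.Injective
      (fun g : Spec (.of K) ⟶ Spec (CommRingCat.of B) => g ≫ Spec.map (CommRingCat.ofHom f)) :=
    ((tfae_universallyInjective (Spec.map (CommRingCat.ofHom f))).out 0 1).1 ‹_›
  have := @h2 K _ (Spec.map (CommRingCat.ofHom φ)) (Spec.map (CommRingCat.ofHom ψ)) (by
    simp only [← Spec.map_comp, ← CommRingCat.ofHom_comp, h])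
  exact congrArg CommRingCat.Hom.hom (Spec.map_injective this)

theorem surjective_spec (hinj : Function.Injective f) (hint : f.IsIntegral) :
    Surjective (Spec.map (CommRingCat.ofHom f)) := by
  letI := f.toAlgebra
  haveI : Algebra.IsIntegral A B := ⟨hint⟩
  refine ⟨fun Q => ?_⟩
  obtain ⟨P, -, hP, hPQ⟩ := Ideal.exists_ideal_over_prime_of_isIntegral Q.asIdeal (⊥ : Ideal B)
    (by
      rw [← RingHom.ker_eq_comap_bot, (RingHom.injective_iff_ker_eq_bot (algebraMap A B)).1 hinj]
      exact bot_le)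
  exact ⟨⟨P, hP⟩, PrimeSpectrum.ext hPQ⟩

theorem uh_spec (hinj : Function.Injective f) (hint : f.IsIntegral)
    (h : ∀ (K : Type u) [Field K] (φ ψ : B →+* K), φ.comp f = ψ.comp f → φ = ψ) :
    IsIntegralHom (Spec.map (CommRingCat.ofHom f)) ∧ UniversallyInjective (Spec.map (CommRingCat.ofHom f)) ∧
      Surjective (Spec.map (CommRingCat.ofHom f)) :=
  ⟨IsIntegralHom.SpecMap_iff.2 hint, universallyInjective_spec f h, surjective_spec f hinj hint⟩

theorem injective_of_surjective [IsReduced A] [Surjective (Spec.map (CommRingCat.ofHom f))] :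
    Function.Injective f := by
  rw [injective_iff_map_eq_zero]
  intro a ha
  refine IsNilpotent.eq_zero (nilpotent_iff_mem_prime.2 fun J hJ => ?_)
  obtain ⟨Q, hQ⟩ := (Spec.map (CommRingCat.ofHom f)).surjective (⟨J, hJ⟩ : PrimeSpectrum A)
  have : J = Q.asIdeal.comap f := (congrArg PrimeSpectrum.asIdeal hQ).symm
  rw [this, Ideal.mem_comap, ha]
  exact Q.asIdeal.zero_mem

/-- Adjoining elements with prescribed powers and multiples in the subring. -/
theorem adjoin_uh (A₀ : Subring B) {ι : Type*} (s : ι → B) (e p : ℕ) (he : 0 < e)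
    (key : ∀ (K : Type u) [Field K] (x y : K), x ^ e = y ^ e → (p : K) * x = (p : K) * y → x = y)
    (h1 : ∀ i, s i ^ e ∈ A₀) (h2 : ∀ i, (p : B) * s i ∈ A₀) :
    let D := Algebra.adjoin A₀ (Set.range s)
    IsIntegralHom (Spec.map (CommRingCat.ofHom (algebraMap A₀ D))) ∧
      UniversallyInjective (Spec.map (CommRingCat.ofHom (algebraMap A₀ D))) ∧
      Surjective (Spec.map (CommRingCat.ofHom (algebraMap A₀ D))) := by
  intro D
  refine uh_spec _ (fun a b hab => Subtype.ext (congrArg (fun x : D => (x : B)) hab)) (fun x => ?_)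
    fun K _ φ ψ h => ?_
  · have hx : IsIntegral A₀ (x : B) := (Algebra.adjoin_le (S := integralClosure A₀ B) (by
      rintro _ ⟨i, rfl⟩
      exact ⟨X ^ e - C ⟨s i ^ e, h1 i⟩, monic_X_pow_sub_C _ he.ne', by
        simp [Algebra.algebraMap_ofSubring]⟩)) x.2
    exact (isIntegral_algHom_iff D.val Subtype.val_injective).1 hx
  · ext x
    obtain ⟨x, hx⟩ := x
    induction hx using Algebra.adjoin_induction with
    | mem x hx =>
      obtain ⟨i, rfl⟩ := hx
      refine key K _ _ ?_ ?_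
      · rw [← map_pow, ← map_pow]
        exact (congrArg φ (Subtype.ext rfl)).trans ((RingHom.congr_fun h ⟨s i ^ e, h1 i⟩).trans
          (congrArg ψ (Subtype.ext rfl)))
      · have hm : ∀ (θ : D →+* K) (z : D), (p : K) * θ z = θ ((p : D) * z) := fun θ z => by
          rw [map_mul, map_natCast]
        rw [hm, hm]
        exact (congrArg φ (Subtype.ext (by simp; rfl))).trans
          ((RingHom.congr_fun h ⟨(p : B) * s i, h2 i⟩).trans
          (congrArg ψ (Subtype.ext (by simp; rfl))))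
    | algebraMap r => exact RingHom.congr_fun h r
    | add x y hx hy h1 h2 =>
      exact (map_add φ ⟨x, hx⟩ ⟨y, hy⟩).trans ((congrArg₂ (· + ·) h1 h2).trans (map_add ψ ⟨x, hx⟩ ⟨y, hy⟩).symm)
    | mul x y hx hy h1 h2 =>
      exact (map_mul φ ⟨x, hx⟩ ⟨y, hy⟩).trans ((congrArg₂ (· * ·) h1 h2).trans (map_mul ψ ⟨x, hx⟩ ⟨y, hy⟩).symm)

/-- A subring containing an ideal is a universal homeomorphism if it is one modulo the ideal. -/
theorem uh_of_ideal (A₀ : Subring B) (𝔍 : Ideal B) (hJ : ∀ x ∈ 𝔍, x ∈ A₀)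
    (h1 : ∀ b, ∃ P : A₀[X], P.Monic ∧ eval₂ A₀.subtype b P ∈ 𝔍)
    (h2 : ∀ (K : Type u) [Field K] (φ ψ : B →+* K), (∀ a ∈ A₀, φ a = ψ a) → (∀ j ∈ 𝔍, φ j = 0) →
      (∀ j ∈ 𝔍, ψ j = 0) → φ = ψ) :
    IsIntegralHom (Spec.map (CommRingCat.ofHom A₀.subtype)) ∧
      UniversallyInjective (Spec.map (CommRingCat.ofHom A₀.subtype)) ∧
      Surjective (Spec.map (CommRingCat.ofHom A₀.subtype)) := by
  refine uh_spec _ Subtype.val_injective (fun b => ?_) fun K _ φ ψ h => ?_
  · obtain ⟨P, hP, hb⟩ := h1 b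
    refine ⟨X * P - C ⟨b * eval₂ A₀.subtype b P, hJ _ (𝔍.mul_mem_left b hb)⟩, ?_, by simp⟩
    nontriviality A₀
    refine (monic_X.mul hP).sub_of_left (degree_C_le.trans_lt ?_)
    rw [mul_comm, degree_mul_X, degree_eq_natDegree hP.ne_zero]
    exact_mod_cast Nat.succ_pos _
  · have hA : ∀ a ∈ A₀, φ a = ψ a := fun a ha => RingHom.congr_fun h ⟨a, ha⟩
    by_cases hk : ∀ j ∈ 𝔍, φ j = 0
    · exact h2 K φ ψ hA hk fun j hj => (hA j (hJ j hj)).symm.trans (hk j hj)
    · push_neg at hk
      obtain ⟨j, hj, hne⟩ := hk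
      ext b
      refine mul_right_cancel₀ hne ?_
      rw [← map_mul, hA _ (hJ _ (𝔍.mul_mem_left b hj)), map_mul, hA j (hJ j hj)]

/-- On a reduced ring, the prime over a minimal prime of the base is killed away from that prime. -/
theorem exists_mul_eq_zero {R C : Type u} [CommRing R] [CommRing C] [IsReduced C] (g : R →+* C) (q : Ideal R)
    [q.IsPrime] (hq : q ∈ minimalPrimes R)
    [UniversallyInjective (Spec.map (CommRingCat.ofHom g))] (Q : Ideal C) [Q.IsPrime] (hQ : Q.comap g = q)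
    {c : C} (hc : c ∈ Q) : ∃ t, t ∉ q ∧ g t * c = 0 := by
  let M : Submonoid C := q.primeCompl.map g ⊔ Submonoid.powers c
  by_cases h0 : (0 : C) ∈ M
  · obtain ⟨_, ⟨t, ht, rfl⟩, _, ⟨n, rfl⟩, h⟩ := Submonoid.mem_sup.1 h0
    refine ⟨t, ht, IsNilpotent.eq_zero ⟨n + 1, ?_⟩⟩
    have h' : g t * c ^ n = 0 := h
    calc (g t * c) ^ (n + 1) = g t ^ n * c * (g t * c ^ n) := by ring
      _ = 0 := by rw [h', mul_zero]
  · obtain ⟨P, hP, -, hd⟩ := Ideal.exists_le_prime_disjoint (⊥ : Ideal C) M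
      (Set.disjoint_left.2 fun x hx hxM => h0 ((Submodule.mem_bot C).1 hx ▸ hxM))
    have hle : P.comap g ≤ q := fun x hx => by
      by_contra hxq
      exact Set.disjoint_left.1 hd hx (Submonoid.mem_sup_left ⟨x, hxq, rfl⟩)
    have hPq : P.comap g = q := le_antisymm hle (hq.2 ⟨inferInstance, bot_le⟩ hle)
    have : (⟨P, hP⟩ : PrimeSpectrum C) = ⟨Q, inferInstance⟩ :=
      (Spec.map (CommRingCat.ofHom g)).injective (PrimeSpectrum.ext (hPq.trans hQ.symm))
    have hPQ : P = Q := congrArg PrimeSpectrum.asIdeal this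
    exact (Set.disjoint_left.1 hd (hPQ ▸ hc) (Submonoid.mem_sup_right (Submonoid.mem_powers c))).elim

/-- Suitable powers and multiples are birational over a given minimal prime. -/
theorem exists_scaled {R C : Type u} [CommRing R] [CommRing C] [IsReduced C] (g : R →+* C)
    (hinj : Function.Injective g) (hint : g.IsIntegral) [UniversallyInjective (Spec.map (CommRingCat.ofHom g))]
    (q : Ideal R) [q.IsPrime] (hq : q ∈ minimalPrimes R) {ι : Type*} [Finite ι] (s : ι → C) :
    ∃ e p : ℕ, 0 < e ∧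
      (∀ (K : Type u) [Field K] (x y : K), x ^ e = y ^ e → (p : K) * x = (p : K) * y → x = y) ∧
      ∀ i, (∃ r, r ∉ q ∧ g r * s i ^ e ∈ g.range) ∧ (∃ r, r ∉ q ∧ g r * ((p : C) * s i) ∈ g.range) := by
  classical
  obtain ⟨⟨Q, hQ'⟩, hQq⟩ := (surjective_spec g hinj hint).surj (⟨q, inferInstance⟩ : PrimeSpectrum R)
  haveI := hQ'
  have hQ : Q.comap g = q := congrArg PrimeSpectrum.asIdeal hQq
  let L := FractionRing (C ⧸ Q)
  let π : C →+* L := (algebraMap (C ⧸ Q) L).comp (Ideal.Quotient.mk Q)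
  let F : Subfield L := Subfield.closure (Set.range (π.comp g))
  have hgF : ∀ r, π (g r) ∈ F := fun r => Subfield.subset_closure ⟨r, rfl⟩
  haveI : Algebra.IsAlgebraic F L := by
    refine ⟨fun x => IsIntegral.isAlgebraic ?_⟩
    have hπ : ∀ c, IsIntegral F (π c) := fun c => by
      obtain ⟨P, hP, hc⟩ := hint c
      refine ⟨P.map ((π.comp g).codRestrict F hgF), hP.map _, ?_⟩
      rw [eval₂_map, show (algebraMap F L).comp ((π.comp g).codRestrict F hgF) = π.comp g from rfl,
        ← hom_eval₂, hc, map_zero]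
    obtain ⟨a, b, -, rfl⟩ := IsFractionRing.div_surjective (A := C ⧸ Q) x
    obtain ⟨a, rfl⟩ := Ideal.Quotient.mk_surjective a
    obtain ⟨b, rfl⟩ := Ideal.Quotient.mk_surjective b
    rw [div_eq_mul_inv]
    exact (hπ a).mul (hπ b).inv
  haveI : IsPurelyInseparable F L := by
    rw [isPurelyInseparable_iff_subsingleton_emb]
    refine ⟨fun σ₁ σ₂ => AlgHom.coe_ringHom_injective ?_⟩
    refine IsLocalization.ringHom_ext (nonZeroDivisors (C ⧸ Q)) (Ideal.Quotient.ringHom_ext ?_)
    exact field_ext_of_spec g _ _ _ (RingHom.ext fun r =>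
      (σ₁.commutes ⟨π (g r), hgF r⟩).trans (σ₂.commutes ⟨π (g r), hgF r⟩).symm)
  have frac : ∀ c : C, π c ∈ F → ∃ a b, b ∉ q ∧ g b * c - g a ∈ Q := fun c hc => by
    obtain ⟨y, hy, z, hz, hyz⟩ := Subfield.mem_closure_iff.1 hc
    have hr : Subring.closure (Set.range (π.comp g)) ≤ (π.comp g).range :=
      Subring.closure_le.2 fun x hx => hx
    obtain ⟨a, rfl⟩ := hr hy
    obtain ⟨b, rfl⟩ := hr hz
    by_cases hb : (π.comp g) b = 0
    · refine ⟨0, 1, fun h => ‹q.IsPrime›.ne_top (q.eq_top_iff_one.2 h), ?_⟩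
      rw [hb, div_zero] at hyz
      rw [map_one, one_mul, map_zero, sub_zero, ← Ideal.Quotient.eq_zero_iff_mem]
      exact IsFractionRing.injective (C ⧸ Q) L (hyz.symm.trans (map_zero _).symm)
    · refine ⟨a, b, fun h => hb ?_, ?_⟩
      · show algebraMap (C ⧸ Q) L (Ideal.Quotient.mk Q (g b)) = 0
        rw [Ideal.Quotient.eq_zero_iff_mem.2 (show g b ∈ Q from hQ.ge h), map_zero]
      · rw [← Ideal.Quotient.eq_zero_iff_mem]
        refine IsFractionRing.injective (C ⧸ Q) L ?_
        show π (g b * c - g a) = algebraMap (C ⧸ Q) L 0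
        rw [map_sub, map_mul, map_zero, sub_eq_zero, ← hyz]
        exact mul_div_cancel₀ _ hb
  have clear : ∀ c : C, π c ∈ F → ∃ r, r ∉ q ∧ g r * c ∈ g.range := fun c hc => by
    obtain ⟨a, b, hb, hab⟩ := frac c hc
    obtain ⟨t, ht, htz⟩ := exists_mul_eq_zero g q hq Q hQ hab
    refine ⟨t * b, fun h => (‹q.IsPrime›.mem_or_mem h).elim ht hb, t * a, ?_⟩
    rw [map_mul, map_mul, mul_assoc, ← sub_eq_zero, ← mul_sub, ← neg_sub, mul_neg, htz, neg_zero]
  obtain ⟨p₀, hp₀⟩ := ExpChar.exists F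
  haveI := hp₀
  choose n hn using fun i => IsPurelyInseparable.pow_mem F p₀ (π (s i))
  cases nonempty_fintype ι
  let N := Finset.univ.sup n
  have hN : ∀ i, π (s i ^ p₀ ^ N) ∈ F := fun i => by
    obtain ⟨y, hy⟩ := hn i
    obtain ⟨d, hd⟩ := Nat.exists_eq_add_of_le (show n i ≤ N from Finset.le_sup (Finset.mem_univ i))
    rw [map_pow, hd, pow_add, pow_mul, ← hy]
    exact pow_mem y.2 _
  rcases hp₀ with _ | hp
  · refine ⟨1, 0, one_pos, fun K _ x y h _ => by simpa using h, fun i => ⟨clear _ ?_, 1,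
      fun h => ‹q.IsPrime›.ne_top (q.eq_top_iff_one.2 h), 0, by simp⟩⟩
    simpa using hN i
  · refine ⟨p₀ ^ N, p₀, pow_pos hp.pos _, fun K _ x y h h' => ?_, fun i => ⟨clear _ (hN i), ?_⟩⟩
    · by_cases hK : (p₀ : K) = 0
      · haveI : CharP K p₀ := by
          obtain ⟨c, hc⟩ := CharP.exists K
          rcases (Nat.dvd_prime hp).1 ((CharP.cast_eq_zero_iff K c p₀).1 hK) with rfl | rfl
          · exact absurd (CharP.char_is_prime_or_zero K 1) (by simp [Nat.not_prime_one])
          · exact hc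
        haveI : Fact p₀.Prime := ⟨hp⟩
        rw [← sub_eq_zero, ← pow_eq_zero_iff (pow_pos hp.pos N).ne', sub_pow_char_pow, h, sub_self]
      · exact mul_left_cancel₀ hK h'
    · have h0 : (p₀ : C) ∈ Q := by
        rw [← Ideal.Quotient.eq_zero_iff_mem]
        refine IsFractionRing.injective (C ⧸ Q) L ?_
        rw [map_natCast, map_natCast, map_zero, ← map_natCast (algebraMap F L), CharP.cast_eq_zero, map_zero]
      obtain ⟨t, ht, htz⟩ := exists_mul_eq_zero g q hq Q hQ h0
      exact ⟨t, ht, 0, by rw [map_zero, ← mul_assoc, htz, zero_mul]⟩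

/-- The elements with a multiple in the base, away from a prime, form a subalgebra. -/
theorem exists_mul_mem_of_adjoin {R C : Type u} [CommRing R] [CommRing C] (g : R →+* C) (q : Ideal R) [q.IsPrime]
    (T : Set C) (hT : ∀ c ∈ T, ∃ r, r ∉ q ∧ g r * c ∈ g.range) {c : C}
    (hc : c ∈ Subring.closure (Set.range g ∪ T)) : ∃ r, r ∉ q ∧ g r * c ∈ g.range := by
  have h1 : (1 : R) ∉ q := fun h => ‹q.IsPrime›.ne_top (q.eq_top_iff_one.2 h)
  have hm : ∀ a b : R, a ∉ q → b ∉ q → a * b ∉ q := fun a b ha hb h => (‹q.IsPrime›.mem_or_mem h).elim ha hb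
  induction hc using Subring.closure_induction with
  | mem x hx => exact hx.elim (fun ⟨a, ha⟩ => ⟨1, h1, a, by rw [ha, map_one, one_mul]⟩) (hT x)
  | zero => exact ⟨1, h1, 0, by simp⟩
  | one => exact ⟨1, h1, 1, by simp⟩
  | add x y _ _ hx hy =>
    obtain ⟨a, ha, a', ha'⟩ := hx
    obtain ⟨b, hb, b', hb'⟩ := hy
    exact ⟨a * b, hm a b ha hb, a' * b + a * b', by rw [map_add, map_mul, map_mul, ha', hb', map_mul]; ring⟩
  | neg x _ hx =>
    obtain ⟨a, ha, a', ha'⟩ := hx
    exact ⟨a, ha, -a', by rw [map_neg, ha', mul_neg]⟩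
  | mul x y _ _ hx hy =>
    obtain ⟨a, ha, a', ha'⟩ := hx
    obtain ⟨b, hb, b', hb'⟩ := hy
    exact ⟨a * b, hm a b ha hb, a' * b', by rw [map_mul, ha', hb', map_mul]; ring⟩

/-- The elements carrying given elements into the base. -/
def colon {R C : Type u} [CommRing R] [CommRing C] (g : R →+* C) {ι : Type*} (m : ι → C) : Ideal R where
  carrier := {r | ∀ k, g r * m k ∈ g.range}
  add_mem' ha hb k := by rw [map_add, add_mul]; exact add_mem (ha k) (hb k)
  zero_mem' k := by rw [map_zero, zero_mul]; exact zero_mem _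
  smul_mem' c x hx k := by rw [smul_eq_mul, map_mul, mul_assoc]; exact mul_mem ⟨c, rfl⟩ (hx k)

theorem mem_colon {R C : Type u} [CommRing R] [CommRing C] {g : R →+* C} {ι : Type*} {m : ι → C} {r : R} :
    r ∈ colon g m ↔ ∀ k, g r * m k ∈ g.range := Iff.rfl

/-- Colon ideals commute with flat base change. -/
theorem mem_map_colon {R C P D : Type u} [CommRing R] [CommRing C] [CommRing P] [CommRing D] (g : R →+* C)
    (d : R →+* P) (c₁ : C →+* D) (g' : P →+* D) (hd : d.Flat) (hw : c₁.comp g = g'.comp d)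
    (hpb : letI := g.toAlgebra; letI := d.toAlgebra; ∃ e : C ⊗[R] P ≃+* D, ∀ c x, e (c ⊗ₜ x) = c₁ c * g' x)
    {ι : Type*} [Finite ι] (m : ι → C) (x : P) :
    x ∈ (colon g m).map d ↔ ∀ k, g' x * c₁ (m k) ∈ g'.range := by
  constructor
  · intro hx k
    refine Submodule.span_induction (fun y hy => ?_) ?_ (fun y z _ _ hy hz => ?_) (fun a y _ hy => ?_) hx
    · obtain ⟨r, hr, rfl⟩ := hy
      obtain ⟨r', hr'⟩ := hr k
      exact ⟨d r', by rw [← RingHom.comp_apply, ← hw, RingHom.comp_apply, hr', map_mul, ← RingHom.comp_apply,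
        ← RingHom.comp_apply g', hw]⟩
    · rw [map_zero, zero_mul]; exact zero_mem _
    · rw [map_add, add_mul]; exact add_mem hy hz
    · rw [smul_eq_mul, map_mul, mul_assoc]; exact mul_mem ⟨a, rfl⟩ hy
  · intro h
    classical
    cases nonempty_fintype ι
    letI := g.toAlgebra; letI := d.toAlgebra
    haveI : Module.Flat R P := hd
    obtain ⟨e, he⟩ := hpb
    choose y hy using h
    let M := LinearMap.range (Algebra.linearMap R C)
    let ψ : R →ₗ[R] (ι → C ⧸ M) := LinearMap.pi fun k => M.mkQ.comp ((LinearMap.mulRight R (m k)).comp (Algebra.linearMap R C))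
    have hex : Function.Exact (colon g m).subtype ψ := fun r => by
      constructor
      · intro hr
        refine ⟨⟨r, fun k => ?_⟩, rfl⟩
        obtain ⟨r', hr'⟩ := (Submodule.Quotient.mk_eq_zero M).1 (congrFun hr k)
        exact ⟨r', hr'⟩
      · rintro ⟨⟨r, hr⟩, rfl⟩
        funext k
        exact (Submodule.Quotient.mk_eq_zero M).2 (hr k)
    have hlt := Module.Flat.lTensor_exact P hex
    have h0 : LinearMap.lTensor P ψ (x ⊗ₜ[R] 1) = 0 := by
      refine (TensorProduct.piRight R R P fun _ : ι => C ⧸ M).injective ?_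
      funext k
      rw [LinearMap.lTensor_tmul, TensorProduct.piRight_apply, TensorProduct.piRightHom_tmul, map_zero]
      show x ⊗ₜ[R] M.mkQ (algebraMap R C 1 * m k) = 0
      rw [map_one, one_mul]
      have h1 : (m k) ⊗ₜ[R] x = (1 : C) ⊗ₜ[R] y k := e.injective (by
        rw [he, he, map_one, one_mul, hy k, mul_comm])
      have h2 := congrArg (fun z => TensorProduct.comm R _ _ (LinearMap.rTensor P M.mkQ z)) h1
      simp only [LinearMap.rTensor_tmul, TensorProduct.comm_tmul] at h2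
      rw [h2, show M.mkQ (1 : C) = 0 from (Submodule.Quotient.mk_eq_zero M).2 ⟨1, map_one (algebraMap R C)⟩,
        TensorProduct.tmul_zero]
    obtain ⟨w, hw'⟩ := (hlt _).1 h0
    have h3 := congrArg (TensorProduct.rid R P) hw'
    rw [TensorProduct.rid_tmul, one_smul] at h3
    rw [← h3]
    clear hw' h3
    induction w using TensorProduct.induction_on with
    | zero => simp
    | add a b ha hb => rw [map_add, map_add]; exact add_mem ha hb
    | tmul a r =>
      rw [LinearMap.lTensor_tmul, TensorProduct.rid_tmul, Submodule.subtype_apply, Algebra.smul_def]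
      exact Ideal.mul_mem_right _ _ (Ideal.mem_map_of_mem d r.2)

end UHRepLib
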